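import Mathlib
import Cfsg.Agent.H944.E6Tab
import Cfsg.Agent.H16.E6.Cov

/-!
# S5927, `Cov.type_thirty` (helper882)

Elements of order 3 of type `A₂³` (24-dimensional centralizer) are conjugate to the standard one; an element which
commutes with it up to a nontrivial central element permutes the three factors.
-/

set_option autoImplicit false

namespace Cfsg.Agent.H882.E6T

open Cfsg.Lie Module
open Cfsg.Agent.ChevalleyStructure
open Cfsg.Agent.ChevalleyStructure.E6Min.Tables Cfsg.Agent.ChevalleyStructure.E6Min.Basic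
  Cfsg.Agent.ChevalleyStructure.E6Min.Checks Cfsg.Agent.ChevalleyStructure.E6Min.Adjoint
  Cfsg.Agent.ChevalleyStructure.E6Min.Forms Cfsg.Agent.ChevalleyStructure.E6Min.Torus

/-- packed words in reflections (base 64, leading digit 1), 25 bits each -/
def WD : ℕ := 0x90800000000022a6042193000000000000000000000000000084b01086580000000424560000000000000000000000000000000000000000000000000000000000000000000000000000000000000000000000000000000000000000000000000000000000000000000000000000000000000000000000000000000000b70000000000264000005f000000000000000000000000000098e000016c00000000004c000000010967c0024220000000008c9800000000000000000000000000000000021ac000000000000000000000000000000000000000000000000c0000000000000000000000000000000000002e000000000009a00000100000000048340000900014dc00000000043200000a60010d30000000005680000000001188000000000000000000000145300000000000000000ac00119600000000051580000000000000000000000000000000000000000000000000000000004220d000844000000000212600000000000001091700022900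4218d000000000421800282600109100000000000000022ac000000000a0b0004544000000000000000000000000000000000120c000000000536c086418000000000000000000000000000159f02122d800000008431800000000000000000000000000000000000000000000000000000000000000000000000000000000000000000000000000000000000000000114a5c0022be000000000a0f800000000000004229400084d81089540000000010db0008460004330000000000000000a0d800000000229800118c00000000000000000000000000000000000000000000000000000000000468000000000146000084f80000000000000010dc00000000000000000000010cd000000000010c00000000145c0008ad80046340000000000460009880000144000000000000000000000000000000000000000000000000000000000000000000000000000000000000000000000000427000000000108d0000210000000000000000000000000000453400008a00000000002800000000000000012d0000029000456800000000149c000023800473400000000109e00000000052800000000000000000000004780000000000000000022000443400000000111c00000000000000000000000000000000000000000000000000000000011494c0029360000000008e60000000000000042256000a4f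81094580000000015180008ef8004960000000000000000886000000000223600125500000000000000000000000000000000004b4400000000119a0231498000000000000000000000000000437808652c000000021aab0000000000000000000000000000000000000000000000000000000000000000000000000000000000000000000000000000000012c00000000000000000000001680000000012dc0000000000000000000000000000000000000000000000000000000000001780000000012e000000000000000000000016a00000000000000000000001113000000000442008451600000000000000000000000000011c802122a80000000843140000000000000000000000000000000000000000000000000000000000000000000000000000000000000000000000000000000000000000010c92c0000000000000000000004b6c000000042454000000010862610c49a00000000000000000000000000000000000000004b7c0000000000000000000005a7c0000000421920000000000000000000000000000000000455c0000000014170008a9000000000000000109400000000000000000000010890000000108934000000001414000849000452400000004249c0008438108734000000000000000a6f010927c00243c0000000008cc010877c0028b000000000090d00000000021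aa0000000000000000000002194000000000000010876c0028aa0000000008c50000000000000000000000000000000000000000000002126f000000000000000000002110f0000000002324000000000000000000000000000000000000000000000000000000000218ee00000000021a4000000000000000000000218e0000000000000000000000000000000000000010866800292a0000000008e5000000000000004219e000a4c010917800000000151f0008ec000497c000000000000000885000000000222a00125b0000000000000000000000000000000000000000000000000000000000052500000000011c9000af0000000000000000149700000000000000000000011d7000000000015c000000001109000a8e0004450000000000054000926800012400000000000000000000000000000000000000000000000000000000000000000000000000000000000000000000000055800000000012a000002c00000000000000000000000000004a700000aa000000000025000000000000000000000000000000000000000010cb000000000436800242a000000000000000462c0000000000000000000005168000000045214000000000467800243000145e000000010885c0029b00424d70000000000000002234042215000885800000000211604229300084d0000000002396000000000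8a58000000000000000000000a0d00000000000000452960008af000000000283c0000000000000000000000000000000000000000000008642800000000000000000000864a600000000090a00000000000000000000000000000000000000000000000000000000008c4ac00000000090b8000000000000000000000a6b800000000000000000000000000000000000000000000000000000000000000000000000000000000000000000000000000000043500000000010c90211460000000000000000000000000000462408492a0000000210e5000000000000000000002124b80000000000000000000210eb800000000212e000000000000000000000000000000000000000000000000000000000210ea00000000022a800000000000000000000024a0000000000000421937800000004259a00000000000000000000422d60000000000000000000000000000000000000008453800109500000000042280000000431d5000000000000000000000114a0000000000000000000000000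

/-- the word number `n` -/
def wd (n : ℕ) : ℕ := (WD >>> (25 * n)) &&& 33554431

/-- packed pairs (first row of the root, its column), 10 bits each -/
def PR : ℕ := 0xa5e9a869ba56a196e5591dc972dc7a268bac6b19861b8560170dc570583615b570683a16b3a064391662b8b9cb5b9d15c5f765d37d65f665936be9fa6693a7e5994e474250b4ce3587d5954d5f86613805034150130cc53d52f4

def prA (r : ℕ) : ℕ := (PR >>> (10 * r)) &&& 31
def prB (r : ℕ) : ℕ := (PR >>> (10 * r + 5)) &&& 31

theorem pr_all : allLt 72 (fun r => (prA r == rowN r) && (prB r == srN r (rowN r))) = true := by decide +kernel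

/-- the reflection -/
def rf (r j : ℕ) : ℕ := if ent r j < 32 then (if ent (71 - r) j < 32 then j else srN (71 - r) j) else srN r j

theorem rf_all : allLt 64 (fun r => allLt 27 fun j => Nat.blt (rf r j) 27) = true := by decide +kernel

/-- application of a word -/
def app : ℕ → ℕ → ℕ → ℕ
  | 0, _, x => x
  | f + 1, v, x => if v < 2 then x else rf (v % 64) (app f (v / 64) x)

/-- the ten parameters of the function number `n` -/
def wv (n k : ℕ) : ℕ :=
  if k < 3 then n / 3 ^ k % 3
  else if k = 3 then 0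
  else if k = 4 then n / 27 % 3
  else if k = 5 then (n % 3 + n / 3 % 3 + n / 9 % 3 + 2 * (n / 27 % 3)) % 3
  else if k = 6 then n / 81 % 3
  else if k = 7 then n / 243 % 3
  else if k = 8 then (n % 3 + n / 3 % 3 + n / 9 % 3 + 2 * (n / 81 % 3) + 2 * (n / 243 % 3)) % 3
  else (n % 3 + n / 3 % 3 + n / 9 % 3) % 3

/-- the value of the function number `n` on the coordinate with code `x` -/
def bN (n x : ℕ) : ℕ := (wv n (3 * (x / 9) + x / 3 % 3) + 2 * wv n (3 * ((x / 9 + 1) % 3) + x % 3)) % 3

/-- the number of roots of level zero -/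
def cnt (n k : ℕ) : ℕ := Nat.rec 0 (fun r acc => acc + if bN n (prA r) = bN n (prB r) then 1 else 0) k

/-- the check for the function number `n` -/
def wchk (n : ℕ) : Bool := !(cnt n 72 == 18) || allLt 27 fun x => bN n (app 4 (wd n) x) == x / 9

theorem word_0 : allLt 122 (fun n => wchk n) = true := by decide +kernel
theorem word_1 : allLt 122 (fun n => wchk (122 + n)) = true := by decide +kernel
theorem word_2 : allLt 122 (fun n => wchk (244 + n)) = true := by decide +kernel
theorem word_3 : allLt 122 (fun n => wchk (366 + n)) = true := by decide +kernel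
theorem word_4 : allLt 122 (fun n => wchk (488 + n)) = true := by decide +kernel
theorem word_5 : allLt 119 (fun n => wchk (610 + n)) = true := by decide +kernel

theorem allLt_of {p : ℕ → Bool} : ∀ n : ℕ, (∀ k < n, p k = true) → allLt n p = true
  | 0, _ => rfl
  | n + 1, h => by
    have h1 : (p n && allLt n p) = true := by
      rw [Bool.and_eq_true]
      exact ⟨h n (Nat.lt_succ_self n), allLt_of n fun k hk => h k (Nat.lt_succ_of_lt hk)⟩
    exact h1

theorem wchk_all : ∀ n < 729, wchk n = true := by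
  intro n hn
  rcases (by omega : n < 122 ∨ (122 ≤ n ∧ n < 244) ∨ (244 ≤ n ∧ n < 366) ∨ (366 ≤ n ∧ n < 488) ∨
    (488 ≤ n ∧ n < 610) ∨ (610 ≤ n ∧ n < 729)) with h | h | h | h | h | h
  · exact allLt_spec word_0 n h
  · have := allLt_spec word_1 (n - 122) (by omega)
    rwa [show 122 + (n - 122) = n by omega] at this
  · have := allLt_spec word_2 (n - 244) (by omega)
    rwa [show 244 + (n - 244) = n by omega] at this
  · have := allLt_spec word_3 (n - 366) (by omega)
    rwa [show 366 + (n - 366) = n by omega] at this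
  · have := allLt_spec word_4 (n - 488) (by omega)
    rwa [show 488 + (n - 488) = n by omega] at this
  · have := allLt_spec word_5 (n - 610) (by omega)
    rwa [show 610 + (n - 610) = n by omega] at this

theorem word_all : allLt 729 (fun n => !(cnt n 72 == 18) || allLt 27 fun x => bN n (app 4 (wd n) x) == x / 9) = true :=
  allLt_of (p := fun n => !(cnt n 72 == 18) || allLt 27 fun x => bN n (app 4 (wd n) x) == x / 9) 729 wchk_all

theorem opp_all : allLt 72 (fun r => allLt 27 fun j => (ent r j < 32 : Bool) || (ent (71 - r) j < 32 : Bool)) = true := by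
  decide +kernel


open scoped Matrix
open Cfsg.Agent.H944.E6T (exists_diag ev_diag ev_conj par par_x par_y par_z par_par Par b_eq lin_cb)
open Cfsg.Agent.H952.F4 (ev es matRep)
open Cfsg.Agent.H163.E6 (V L scal)
open Cfsg.Agent.BpExc.TorAll (HAlg)

theorem rf_lt {r j : ℕ} (hr : r < 64) (hj : j < 27) : rf r j < 27 :=
  Nat.blt_eq.mp (allLt_spec (allLt_spec rf_all r hr) j hj)

theorem app_lt : ∀ (f v : ℕ) {x : ℕ}, x < 27 → app f v x < 27
  | 0, _, _, h => h
  | f + 1, v, x, h => by
    unfold app
    split_ifs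
    · exact h
    · exact rf_lt (Nat.mod_lt _ (by norm_num)) (app_lt f _ h)

section nr

variable {K : Type*} [Field K]

/-- the reflection as an element of the group -/
def nr (K : Type*) [Field K] (r : ℕ) : GL I27 K := zU r 1 * zU (71 - r) (-1) * zU r 1

theorem nr_mem (K : Type*) [Field K] (r : ℕ) : nr K r ∈ Zgrp K := mul_mem (mul_mem (zU_mem _ _) (zU_mem _ _)) (zU_mem _ _)

theorem coe_nr {r : ℕ} (hr : r < 72) : ((nr K r : GL I27 K) : Matrix I27 I27 K) =
    1 - Nm K r * Nm K (71 - r) - Nm K (71 - r) * Nm K r + Nm K r - Nm K (71 - r) := by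
  have h := nM_eq (F := K) hr (c := 1) one_ne_zero
  rw [one_smul, inv_one, one_smul] at h
  rw [← h]
  unfold nr
  rw [Units.val_mul, Units.val_mul, coe_zU hr, coe_zU (by omega)]

theorem sg_of_lt {r : ℕ} {x : I27} (h : ent r (code x) < 32) : sg r x = 0 := by
  show sgN r (code x) = 0
  unfold sgN
  rw [if_pos h]

theorem sg_of_ge {r : ℕ} {x : I27} (h : ¬ ent r (code x) < 32) : sg r x ≠ 0 := by
  show sgN r (code x) ≠ 0
  unfold sgN
  rw [if_neg h]
  split_ifs <;> norm_num

theorem nr_apply {r : ℕ} (hr : r < 72) (m m' : I27) :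
    ((nr K r : GL I27 K) : Matrix I27 I27 K) m m' = 0 ∨ m' = dec (rf r (code m)) := by
  rw [coe_nr hr, Nm_mul_opp hr, Nm_opp_mul hr]
  simp only [Matrix.add_apply, Matrix.sub_apply, Matrix.diagonal_apply, Matrix.one_apply, Nm_apply]
  have ho := allLt_spec (allLt_spec opp_all r hr) _ (code_lt m)
  simp only [Bool.or_eq_true, decide_eq_true_eq] at ho
  by_cases h1 : ent r (code m) < 32
  · have s1 := sg_of_lt h1
    by_cases h2 : ent (71 - r) (code m) < 32
    · have s2 := sg_of_lt h2
      have e : rf r (code m) = code m := by unfold rf; rw [if_pos h1, if_pos h2]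
      rw [e, dec_code]
      by_cases hm : m' = m
      · exact Or.inr hm
      · left
        rw [if_neg (Ne.symm hm), if_neg (Ne.symm hm), if_neg (Ne.symm hm), s1, s2]
        simp
    · have s2 := sg_of_ge h2
      have e : rf r (code m) = srN (71 - r) (code m) := by unfold rf; rw [if_pos h1, if_neg h2]
      rw [e]
      by_cases hm : m' = dec (srN (71 - r) (code m))
      · exact Or.inr hm
      · left
        have hm' : ¬ m' = sr (71 - r) m := hm
        rw [if_neg hm', s1, ind_of_ne s2, ind_of_eq s1]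
        by_cases hmm : m = m'
        · rw [if_pos hmm, if_pos hmm, if_pos hmm]; simp
        · rw [if_neg hmm, if_neg hmm, if_neg hmm]; simp
  · have s1 := sg_of_ge h1
    have h2 : ent (71 - r) (code m) < 32 := by
      rcases ho with h | h
      · exact absurd h h1
      · exact h
    have s2 := sg_of_lt h2
    have e : rf r (code m) = srN r (code m) := by unfold rf; rw [if_neg h1]
    rw [e]
    by_cases hm : m' = dec (srN r (code m))
    · exact Or.inr hm
    · left
      have hm' : ¬ m' = sr r m := hm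
      rw [if_neg hm', s2, ind_of_ne s1, ind_of_eq s2]
      by_cases hmm : m = m'
      · rw [if_pos hmm, if_pos hmm, if_pos hmm]; simp
      · rw [if_neg hmm, if_neg hmm, if_neg hmm]; simp

theorem nr_diag {r : ℕ} (hr : r < 72) (d : I27 → K) :
    ((nr K r : GL I27 K) : Matrix I27 I27 K) * Matrix.diagonal d =
      Matrix.diagonal (fun x => d (dec (rf r (code x)))) * ((nr K r : GL I27 K) : Matrix I27 I27 K) := by
  ext m m'
  rw [Matrix.mul_diagonal, Matrix.diagonal_mul]
  rcases nr_apply (K := K) hr m m' with h | h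
  · rw [h, zero_mul, mul_zero]
  · rw [h, mul_comm]

theorem word_diag (f : ℕ) : ∀ (v : ℕ) (d : I27 → K), ∃ n : ↥(Zgrp K),
    ((n : GL I27 K) : Matrix I27 I27 K) * Matrix.diagonal d =
      Matrix.diagonal (fun x => d (dec (app f v (code x)))) * ((n : GL I27 K) : Matrix I27 I27 K) := by
  induction f with
  | zero =>
    intro v d
    refine ⟨1, ?_⟩
    have e : (fun x : I27 => d (dec (app 0 v (code x)))) = d := by
      funext x
      show d (dec (code x)) = d x
      rw [dec_code]
    rw [e]
    show (1 : Matrix I27 I27 K) * _ = _ * (1 : Matrix I27 I27 K)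
    rw [one_mul, mul_one]
  | succ f ih =>
    intro v d
    by_cases hv : v < 2
    · refine ⟨1, ?_⟩
      have e : (fun x : I27 => d (dec (app (f + 1) v (code x)))) = d := by
        funext x
        unfold app
        rw [if_pos hv, dec_code]
      rw [e]
      show (1 : Matrix I27 I27 K) * _ = _ * (1 : Matrix I27 I27 K)
      rw [one_mul, mul_one]
    · have hr : v % 64 < 64 := Nat.mod_lt _ (by norm_num)
      obtain ⟨n, hn⟩ := ih (v / 64) (fun x => d (dec (rf (v % 64) (code x))))
      refine ⟨n * ⟨nr K (v % 64), nr_mem K _⟩, ?_⟩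
      rw [Subgroup.coe_mul, Units.val_mul, mul_assoc]
      show _ * (((nr K (v % 64) : GL I27 K) : Matrix I27 I27 K) * Matrix.diagonal d) = _
      rw [nr_diag (by omega) d, ← mul_assoc, hn, mul_assoc]
      congr 2
      funext x
      have e : app (f + 1) v (code x) = rf (v % 64) (app f (v / 64) (code x)) := by
        conv_lhs => unfold app
        rw [if_neg hv]
      rw [e, code_dec (app_lt f _ (code_lt x))]

end nr

/-! ### numbers of the functions -/

theorem exists_num {b : I27 → ZMod 3} (hb : ∀ x y, rel x y = 2 → b x + b y + b (th x y) = 0) :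
    ∃ n < 729, ∀ x, (b x).val = bN n (code x) := by
  have hP := par_par hb
  set w := par b with hw
  have w3 : w 3 = 0 := by
    have := par_y b 0
    simpa using this
  have l0 := ZMod.val_lt (w 0)
  have l1 := ZMod.val_lt (w 1)
  have l2 := ZMod.val_lt (w 2)
  have l4 := ZMod.val_lt (w 4)
  have l6 := ZMod.val_lt (w 6)
  have l7 := ZMod.val_lt (w 7)
  have c : ∀ k, (((w k).val : ℕ) : ZMod 3) = w k := fun k => ZMod.natCast_zmod_val _
  obtain ⟨n, hn⟩ : ∃ n, n = (w 0).val + 3 * (w 1).val + 9 * (w 2).val + 27 * (w 4).val + 81 * (w 6).val +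
    243 * (w 7).val := ⟨_, rfl⟩
  have n0 : n % 3 = (w 0).val := by omega
  have n1 : n / 3 % 3 = (w 1).val := by omega
  have n2 : n / 9 % 3 = (w 2).val := by omega
  have n4 : n / 27 % 3 = (w 4).val := by omega
  have n6 : n / 81 % 3 = (w 6).val := by omega
  have n7 : n / 243 % 3 = (w 7).val := by omega
  have h3 : (3 : ZMod 3) = 0 := by decide
  have hwv : ∀ k < 9, ((wv n k : ℕ) : ZMod 3) = w k := by
    intro k hk
    interval_cases k
    · show ((n / 3 ^ 0 % 3 : ℕ) : ZMod 3) = _
      rw [pow_zero, Nat.div_one, n0, c]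
    · show ((n / 3 ^ 1 % 3 : ℕ) : ZMod 3) = _
      rw [pow_one, n1, c]
    · show ((n / 3 ^ 2 % 3 : ℕ) : ZMod 3) = _
      rw [show 3 ^ 2 = 9 by norm_num, n2, c]
    · rw [w3]; rfl
    · show ((n / 27 % 3 : ℕ) : ZMod 3) = _
      rw [n4, c]
    · show (((n % 3 + n / 3 % 3 + n / 9 % 3 + 2 * (n / 27 % 3)) % 3 : ℕ) : ZMod 3) = _
      rw [n0, n1, n2, n4, ZMod.natCast_mod]
      push_cast
      rw [c, c, c, c]
      linear_combination hP.x - hP.y + w3 + w 4 * h3
    · show ((n / 81 % 3 : ℕ) : ZMod 3) = _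
      rw [n6, c]
    · show ((n / 243 % 3 : ℕ) : ZMod 3) = _
      rw [n7, c]
    · show (((n % 3 + n / 3 % 3 + n / 9 % 3 + 2 * (n / 81 % 3) + 2 * (n / 243 % 3)) % 3 : ℕ) : ZMod 3) = _
      rw [n0, n1, n2, n6, n7, ZMod.natCast_mod]
      push_cast
      rw [c, c, c, c, c]
      linear_combination hP.x - hP.z + (w 6 + w 7) * h3
  refine ⟨n, by omega, fun x => ?_⟩
  have hx := b_eq hb x
  rw [lin_cb _ (code_lt x), ← hw, ← hwv _ (by have := code_lt x; omega), ← hwv _ (by have := code_lt x; omega)] at hx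
  have hlt : bN n (code x) < 3 := Nat.mod_lt _ (by norm_num)
  have e : ((bN n (code x) : ℕ) : ZMod 3) = b x := by
    rw [hx]
    unfold bN
    rw [ZMod.natCast_mod]
    push_cast
    linear_combination ((wv n (3 * ((code x / 9 + 1) % 3) + code x % 3) : ℕ) : ZMod 3) * h3
  rw [← e, ZMod.val_natCast_of_lt hlt]

theorem cnt_eq (n : ℕ) : ∀ k ≤ 72, cnt n k =
    ∑ r ∈ Finset.range k, if bN n (rowN r) = bN n (srN r (rowN r)) then 1 else 0 := by
  intro k
  induction k with
  | zero => intro _; rfl
  | succ k ih =>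
    intro hk
    have h := allLt_spec pr_all k (by omega)
    simp only [Bool.and_eq_true, beq_iff_eq] at h
    rw [Finset.sum_range_succ, ← ih (by omega)]
    show cnt n k + _ = _
    rw [h.1, h.2]

/-- elements of type `A₂³` are conjugate to the standard one -/
theorem exists_std {K : Type*} [Field K] [IsAlgClosed K] (p : ℕ) [Fact p.Prime] [CharP K p] (hK : HAlg p K)
    (hp : p ≠ 3) {ζ : K} (hζ : IsPrimitiveRoot ζ 3) {x : ↥(Zgrp K)} (hx : x ^ 3 = 1) (h24 : ev (L K x) 1 = 24) :
    ∃ g : ↥(Zgrp K), (((g * x * g⁻¹ : ↥(Zgrp K)) : GL I27 K) : Matrix I27 I27 K) =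
      Matrix.diagonal fun m : I27 => ζ ^ (m.1.val) := by
  classical
  have hcop : (3 : ℕ).Coprime p := (Nat.coprime_primes Nat.prime_three Fact.out).2 (Ne.symm hp)
  obtain ⟨g, d, hdV, hdL, hdm, htri⟩ := exists_diag p hK (by norm_num : (3 : ℕ) ≠ 0) hcop hx
  have hζ0 : ζ ≠ 0 := hζ.ne_zero (by norm_num)
  let z : Kˣ := Units.mk0 ζ hζ0
  have hzu : IsPrimitiveRoot z 3 := by
    rw [← IsPrimitiveRoot.coe_units_iff]
    exact hζ
  have hex : ∀ i, ∃ a < 3, z ^ a = d i := by
    intro i
    have h1 : ((d i : Kˣ) : K) ^ 3 = 1 := by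
      rw [← Units.val_pow_eq_pow_val, hdm i, Units.val_one]
    obtain ⟨a, ha', ha⟩ := hζ.eq_pow_of_pow_eq_one h1
    refine ⟨a, ha', Units.ext ?_⟩
    rw [Units.val_pow_eq_pow_val, ← ha]
    rfl
  choose a ha' ha using hex
  let b : I27 → ZMod 3 := fun i => (a i : ZMod 3)
  have hzp : ∀ n : ℤ, z ^ n = z ^ ((n : ZMod 3).val) := by
    intro n
    rw [← zpow_natCast, ZMod.val_intCast]
    have h1 : z ^ ((3 : ℕ) : ℤ) = 1 := by rw [zpow_natCast]; exact hzu.pow_eq_one
    conv_lhs => rw [← Int.emod_add_mul_ediv n (3 : ℕ)]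
    rw [zpow_add, zpow_mul, h1, one_zpow, mul_one]
  have hzinj : ∀ {c c' : ZMod 3}, z ^ c.val = z ^ c'.val → c = c' := by
    intro c c' h
    exact ZMod.val_injective 3 (hzu.pow_inj (ZMod.val_lt _) (ZMod.val_lt _) h)
  have hdb : ∀ i, d i = z ^ (b i).val := by
    intro i
    rw [← ha i, ← zpow_natCast, hzp]
    simp [b]
  have hb : ∀ x y, rel x y = 2 → b x + b y + b (th x y) = 0 := by
    intro x y hxy
    have h1 := htri x y hxy
    apply hzinj
    rw [hdb, hdb, hdb, ← pow_add, ← pow_add] at h1
    rw [ZMod.val_zero, pow_zero, ← h1, ← zpow_natCast z ((b x).val + (b y).val + (b (th x y)).val), hzp]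
    congr 2
    push_cast
    simp
  obtain ⟨n, hn, hbn⟩ := exists_num hb
  -- the number of roots
  have hcard : cnt n 72 = 18 := by
    have h1 : ev (L K (g * x * g⁻¹)) 1 = 24 := by rw [ev_conj]; exact h24
    obtain ⟨D, hD⟩ : ∃ D : chevE6.Idx → K, D = Sum.elim (fun _ => (1 : K))
        (fun r : Fin chevE6.nroots => (((d (row r.val) * (d (sr r.val (row r.val)))⁻¹ : Kˣ)) : K)) := ⟨_, rfl⟩
    have hL : L K (g * x * g⁻¹) = Matrix.toLin' (Matrix.diagonal D) := by
      rw [hD, ← hdL]
      rfl
    rw [ev_diag _ 1 hL, Finset.card_filter, Fintype.sum_sum_type] at h1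
    have e1 : (∑ i : Fin chevE6.rank, if D (Sum.inl i) = 1 then 1 else 0) = 6 := by
      rw [hD]
      show (∑ i : Fin 6, if (1 : K) = 1 then 1 else 0) = 6
      simp
    have e2 : (∑ r : Fin chevE6.nroots, if D (Sum.inr r) = 1 then 1 else 0) = cnt n 72 := by
      rw [cnt_eq n 72 le_rfl]
      show (∑ r : Fin 72, _) = _
      rw [← Fin.sum_univ_eq_sum_range (fun r => if bN n (rowN r) = bN n (srN r (rowN r)) then 1 else 0) 72]
      refine Finset.sum_congr rfl fun r _ => ?_
      have hr := r.isLt
      have hrow : rowN r.val < 27 := by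
        have := allLt_spec row_all r.val hr
        simp only [Bool.and_eq_true, Nat.blt_eq] at this
        exact this.1.1.1
      have hc : code (row r.val) = rowN r.val := code_dec hrow
      have hiff : D (Sum.inr r) = 1 ↔ bN n (rowN r) = bN n (srN r (rowN r)) := by
        rw [hD]
        change (((d (row r.val) * (d (sr r.val (row r.val)))⁻¹ : Kˣ)) : K) = 1 ↔ _
        have h2 : bN n (rowN r) = (b (row r.val)).val := by rw [hbn, hc]
        have h3 : bN n (srN r (rowN r)) = (b (sr r.val (row r.val))).val := by rw [hbn, code_sr hr, hc]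
        rw [h2, h3]
        constructor
        · intro h
          have h4 : d (row r.val) = d (sr r.val (row r.val)) := by
            have h5 : d (row r.val) * (d (sr r.val (row r.val)))⁻¹ = 1 := Units.ext h
            exact mul_inv_eq_one.1 h5
          rw [hdb, hdb] at h4
          exact congrArg ZMod.val (hzinj h4)
        · intro h
          have h4 : d (row r.val) = d (sr r.val (row r.val)) := by rw [hdb, hdb, h]
          rw [h4, mul_inv_cancel, Units.val_one]
      by_cases h : bN n (rowN r) = bN n (srN r (rowN r))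
      · rw [if_pos h, if_pos (hiff.2 h)]
      · rw [if_neg h, if_neg (fun h' => h (hiff.1 h'))]
    rw [e1, e2] at h1
    omega
  have hw := allLt_spec word_all n hn
  rw [hcard] at hw
  have hw' := fun (x : I27) => allLt_spec (by simpa using hw : allLt 27 (fun x => bN n (app 4 (wd n) x) == x / 9) = true)
    _ (code_lt x)
  obtain ⟨m, hm⟩ := word_diag (K := K) 4 (wd n) (fun x => (d x : K))
  refine ⟨m * g, ?_⟩
  have e1 : m * g * x * (m * g)⁻¹ = m * (g * x * g⁻¹) * m⁻¹ := by group
  have e2 : (((m * (g * x * g⁻¹) * m⁻¹ : ↥(Zgrp K)) : GL I27 K) : Matrix I27 I27 K) =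
      ((m : GL I27 K) : Matrix I27 I27 K) * (((g * x * g⁻¹ : ↥(Zgrp K)) : GL I27 K) : Matrix I27 I27 K) *
        (((m : GL I27 K)⁻¹ : GL I27 K) : Matrix I27 I27 K) := rfl
  rw [e1, e2, hdV, hm, mul_assoc, ← Units.val_mul, mul_inv_cancel, Units.val_one, mul_one]
  congr 1
  funext x
  have h5 := hw' x
  rw [beq_iff_eq] at h5
  have h6 : (b (dec (app 4 (wd n) (code x)))).val = x.1.val := by
    rw [hbn, code_dec (app_lt 4 _ (code_lt x)), h5]
    have := x.2.1.isLt
    have := x.2.2.isLt
    unfold code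
    omega
  rw [hdb, h6, Units.val_pow_eq_pow_val]
  rfl

/-! ### the standard element -/

theorem uniq_all : allLt 72 (fun r => allLt 27 fun m => (ent r m < 32 : Bool) ||
    ((!(srN r m == m)) && allLt 72 fun s => (s == r) || (ent s m < 32 : Bool) || !(srN s m == srN r m))) = true := by
  decide +kernel

theorem blk_all : allLt 72 (fun r => allLt 27 fun m => (ent r m < 32 : Bool) ||
    ((m / 9 + 2 * (srN r m / 9)) % 3 == (rowN r / 9 + 2 * (srN r (rowN r) / 9)) % 3)) = true := by decide +kernel

/-- the root `r` kills the block `j` -/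
def zer (r j : ℕ) : Bool := allLt 9 fun a => (ent r (9 * j + a) < 32 : Bool)

theorem zer_all : allLt 72 (fun r => !((rowN r / 9 + 2 * (srN r (rowN r) / 9)) % 3 == 0) ||
    (zer r 0 && !(zer r 1) && !(zer r 2)) || (zer r 1 && !(zer r 0) && !(zer r 2)) ||
    (zer r 2 && !(zer r 0) && !(zer r 1))) = true := by decide +kernel

section std

variable {K : Type*} [Field K] {ζ : K}

theorem comb_apply_gen (c : chevE6.Idx → K) {r : Fin chevE6.nroots} {m : I27} (hs : sg r.val m ≠ 0) :
    comb c m (sr r.val m) = c (Sum.inr r) * ((sg r.val m : ℤ) : K) := by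
  have hr := lt72 r
  have h0 := allLt_spec (allLt_spec uniq_all _ hr) _ (code_lt m)
  have hent : ¬ ent r.val (code m) < 32 := fun h => hs (sg_of_lt h)
  simp only [Bool.or_eq_true, decide_eq_true_eq, Bool.and_eq_true, Bool.not_eq_true', beq_eq_false_iff_ne] at h0
  rcases h0 with h0 | ⟨h1, h2⟩
  · exact absurd h0 hent
  have hne : m ≠ sr r.val m := by
    intro h
    apply h1
    have := congrArg code h
    rw [code_sr hr] at this
    exact this.symm
  rw [comb_split, Matrix.add_apply, Matrix.sum_apply, Matrix.sum_apply]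
  have e1 : ∑ i : Fin chevE6.rank, (c (Sum.inl i) • Hm K i.val) m (sr r.val m) = 0 := by
    refine Finset.sum_eq_zero fun i _ => ?_
    rw [Matrix.smul_apply, Hm_apply, if_neg hne, smul_zero]
  rw [e1, zero_add, Finset.sum_eq_single r]
  · rw [Matrix.smul_apply, Nm_apply, if_pos rfl, smul_eq_mul]
  · intro s _ hsr
    rw [Matrix.smul_apply, Nm_apply]
    have h3 := allLt_spec h2 s.val (lt72 s)
    simp only [Bool.or_eq_true, decide_eq_true_eq, Bool.not_eq_true', beq_eq_false_iff_ne, beq_iff_eq] at h3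
    rcases h3 with (h3 | h3) | h3
    · exact absurd (Fin.ext h3) hsr
    · rw [sg_of_lt h3]; simp
    · rw [if_neg, smul_zero]
      intro h4
      apply h3
      have := congrArg code h4
      rw [code_sr hr, code_sr (lt72 s)] at this
      exact this.symm
  · intro h; exact absurd (Finset.mem_univ _) h

/-- the diagonal of the standard element -/
def dS (ζ : K) : I27 → K := fun m => ζ ^ m.1.val

theorem row_blk (hζ : IsPrimitiveRoot ζ 3) {Y : Matrix I27 I27 K} {e : Fin 3}
    (h : Y * Matrix.diagonal (dS ζ) = ζ ^ e.val • (Matrix.diagonal (dS ζ) * Y)) (m a : I27) :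
    Y m a = 0 ∨ a.1 = m.1 + e := by
  by_cases h0 : Y m a = 0
  · exact Or.inl h0
  · right
    have h1 := congrFun (congrFun h m) a
    rw [Matrix.mul_diagonal, Matrix.smul_apply, Matrix.diagonal_mul, smul_eq_mul] at h1
    have h2 : ζ ^ a.1.val = ζ ^ (m.1.val + e.val) := by
      apply mul_left_cancel₀ h0
      show Y m a * dS ζ a = _
      rw [h1, pow_add]
      unfold dS
      ring
    have h3 : ζ ^ (m.1.val + e.val) = ζ ^ ((m.1.val + e.val) % 3) := by
      conv_lhs => rw [← Nat.mod_add_div (m.1.val + e.val) 3, pow_add, pow_mul, hζ.pow_eq_one, one_pow, mul_one]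
    rw [h3] at h2
    have h4 := hζ.pow_inj a.1.isLt (Nat.mod_lt _ (by norm_num)) h2
    apply Fin.ext
    rw [h4, Fin.val_add]

theorem row_kill (hζ : IsPrimitiveRoot ζ 3) {Y Yi C N : Matrix I27 I27 K} {e : Fin 3}
    (h : Y * Matrix.diagonal (dS ζ) = ζ ^ e.val • (Matrix.diagonal (dS ζ) * Y)) (hYi : Y * Yi = 1)
    (hC : Y * N = C * Y) {j : Fin 3} (hN : ∀ a : I27, a.1 = j → ∀ b, N a b = 0) {m : I27} (hm : m.1 + e = j)
    (b : I27) : C m b = 0 := by
  have h1 : ∀ b', (Y * N) m b' = 0 := by
    intro b'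
    rw [Matrix.mul_apply]
    refine Finset.sum_eq_zero fun a _ => ?_
    rcases row_blk hζ h m a with h2 | h2
    · rw [h2, zero_mul]
    · rw [hN a (h2.trans hm), mul_zero]
  have h2 : C = Y * N * Yi := by rw [hC, mul_assoc, hYi, mul_one]
  rw [h2, Matrix.mul_apply]
  exact Finset.sum_eq_zero fun b' _ => by rw [h1, zero_mul]

/-- the functionals -/
theorem functionals (c : chevE6.Idx → K) (k : Fin 3) (h : ∀ m : I27, m.1 = k → comb c m m = 0) :
    (k ≠ 0 → c (Sum.inl (3 : Fin 6)) = 0 ∧ 3 * c (Sum.inl (1 : Fin 6)) - c (Sum.inl (3 : Fin 6)) = 0) ∧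
    (k ≠ 1 → 3 * c (Sum.inl (0 : Fin 6)) - c (Sum.inl (3 : Fin 6)) = 0 ∧
      3 * c (Sum.inl (2 : Fin 6)) - 2 * c (Sum.inl (3 : Fin 6)) = 0) ∧
    (k ≠ 2 → 3 * c (Sum.inl (4 : Fin 6)) - 2 * c (Sum.inl (3 : Fin 6)) = 0 ∧
      3 * c (Sum.inl (5 : Fin 6)) - c (Sum.inl (3 : Fin 6)) = 0) := by
  have hk : k = 0 ∨ k = 1 ∨ k = 2 := (by decide : ∀ i : Fin 3, i = 0 ∨ i = 1 ∨ i = 2) k
  rcases hk with rfl | rfl | rfl
  · have w0 := comb_diag_val c 0 1 0 0 0 0 (-1) (by decide +kernel)
    have w1 := comb_diag_val c 1 1 0 0 0 (-1) 1 (by decide +kernel)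
    have w2 := comb_diag_val c 2 1 0 0 (-1) 1 0 (by decide +kernel)
    have w3 := comb_diag_val c 3 (-1) 0 1 0 0 (-1) (by decide +kernel)
    rw [h (dec 0) (by decide)] at w0
    rw [h (dec 1) (by decide)] at w1
    rw [h (dec 2) (by decide)] at w2
    rw [h (dec 3) (by decide)] at w3
    push_cast at w0 w1 w2 w3
    refine ⟨fun h => absurd rfl h, fun _ => ⟨?_, ?_⟩, fun _ => ⟨?_, ?_⟩⟩
    · linear_combination -w0 - w1 - w2
    · linear_combination w0 - 2 * w1 - 2 * w2 - 3 * w3
    · linear_combination w0 + w1 - 2 * w2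
    · linear_combination 2 * w0 - w1 - w2
  · have w0 := comb_diag_val c 9 0 0 0 0 0 1 (by decide +kernel)
    have w1 := comb_diag_val c 10 0 (-1) 0 0 0 1 (by decide +kernel)
    have w2 := comb_diag_val c 11 0 1 0 (-1) 0 1 (by decide +kernel)
    have w3 := comb_diag_val c 12 0 0 0 0 1 (-1) (by decide +kernel)
    rw [h (dec 9) (by decide)] at w0
    rw [h (dec 10) (by decide)] at w1
    rw [h (dec 11) (by decide)] at w2
    rw [h (dec 12) (by decide)] at w3
    push_cast at w0 w1 w2 w3
    refine ⟨fun _ => ⟨?_, ?_⟩, fun h => absurd rfl h, fun _ => ⟨?_, ?_⟩⟩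
    · linear_combination -2 * w0 + w1 + w2
    · linear_combination -w0 + 2 * w1 - w2
    · linear_combination w0 - 2 * w1 - 2 * w2 - 3 * w3
    · linear_combination -w0 - w1 - w2
  · have w0 := comb_diag_val c 18 (-1) 0 0 0 0 0 (by decide +kernel)
    have w1 := comb_diag_val c 19 1 0 (-1) 0 0 0 (by decide +kernel)
    have w2 := comb_diag_val c 20 0 0 1 (-1) 0 0 (by decide +kernel)
    have w3 := comb_diag_val c 21 (-1) 1 0 0 0 0 (by decide +kernel)
    rw [h (dec 18) (by decide)] at w0
    rw [h (dec 19) (by decide)] at w1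
    rw [h (dec 20) (by decide)] at w2
    rw [h (dec 21) (by decide)] at w3
    push_cast at w0 w1 w2 w3
    refine ⟨fun _ => ⟨?_, ?_⟩, fun _ => ⟨?_, ?_⟩, fun h => absurd rfl h⟩
    · linear_combination w0 + w1 + w2
    · linear_combination 2 * w0 - w1 - w2 - 3 * w3
    · linear_combination 2 * w0 - w1 - w2
    · linear_combination w0 + w1 - 2 * w2

end std

/-! ### the trace -/

section tr

variable {K : Type*} [Field K] {ζ : K}

/-- the diagonal of the image of the standard element -/
def dL (ζ : K) : chevE6.Idx → K := Sum.elim (fun _ => 1) fun r : Fin chevE6.nroots =>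
  ζ ^ ((rowN r.val / 9 + 2 * (srN r.val (rowN r.val) / 9)) % 3)

theorem hk3 {K : Type*} [Field K] {ζ : K} (hζ : IsPrimitiveRoot ζ 3) (n : ℕ) : ζ ^ n = ζ ^ (n % 3) := by
  conv_lhs => rw [← Nat.mod_add_div n 3, pow_add, pow_mul, hζ.pow_eq_one, one_pow, mul_one]

theorem dec_fst {n : ℕ} (hn : n < 27) : (dec n).1.val = n / 9 := by
  show (Fin.ofNat 3 (n / 9)).val = n / 9
  simp only [Fin.ofNat]
  omega

theorem P_std (hζ : IsPrimitiveRoot ζ 3) :
    E6Min.Adjoint.P (Matrix.diagonal (dS ζ)) (Matrix.diagonal (dL ζ)) := by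
  intro col
  have hc : (fun row => Matrix.diagonal (dL ζ) row col) = fun row => if row = col then dL ζ col else 0 := by
    funext row
    rw [Matrix.diagonal_apply]
    by_cases h : row = col
    · rw [if_pos h, if_pos h, h]
    · rw [if_neg h, if_neg h]
  rw [hc]
  have hcomb : comb (fun row => if row = col then dL ζ col else 0) = dL ζ col • B K col := by
    rw [comb_def, Finset.sum_eq_single col]
    · rw [if_pos rfl]
    · intro u _ hu; rw [if_neg hu, zero_smul]
    · intro h; exact absurd (Finset.mem_univ _) h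
  rw [hcomb]
  ext m m'
  rw [Matrix.diagonal_mul, smul_mul_assoc, Matrix.smul_apply, Matrix.mul_diagonal, smul_eq_mul]
  rcases col with i | r
  · show dS ζ m * Hm K i.val m m' = 1 * (Hm K i.val m m' * dS ζ m')
    rw [Hm_apply]
    by_cases h : m = m'
    · subst h
      ring
    · rw [if_neg h]; ring
  · show dS ζ m * Nm K r.val m m' = ζ ^ _ * (Nm K r.val m m' * dS ζ m')
    rw [Nm_apply]
    by_cases h : m' = sr r.val m
    · rw [if_pos h]
      by_cases hs : sg r.val m = 0
      · rw [hs]; simp
      · subst h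
        have hr := lt72 r
        have h0 := allLt_spec (allLt_spec blk_all _ hr) _ (code_lt m)
        have hent : ¬ ent r.val (code m) < 32 := fun h => hs (sg_of_lt h)
        simp only [Bool.or_eq_true, decide_eq_true_eq, beq_iff_eq] at h0
        have h1 := h0.resolve_left hent
        have hm1 : m.1.val = code m / 9 := by
          have := m.2.1.isLt
          have := m.2.2.isLt
          unfold code; omega
        have hm2 : (sr r.val m).1.val = srN r.val (code m) / 9 := dec_fst (srN_lt hr (code_lt m))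
        unfold dS
        have e : ζ ^ m.1.val = ζ ^ ((rowN r.val / 9 + 2 * (srN r.val (rowN r.val) / 9)) % 3) *
            ζ ^ (sr r.val m).1.val := by
          rw [← h1, ← pow_add, hk3 hζ (m.1.val), hk3 hζ (_ + _), hm1, hm2]
          congr 1
          omega
        rw [e]
        ring
    · rw [if_neg h]; ring

theorem w0 : ∀ a : I27, a.1 = 1 → wt a 0 = 0 := by decide +kernel
theorem w2 : ∀ a : I27, a.1 = 1 → wt a 2 = 0 := by decide +kernel
theorem w1 : ∀ a : I27, a.1 = 0 → wt a 1 = 0 := by decide +kernel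
theorem w4 : ∀ a : I27, a.1 = 2 → wt a 4 = 0 := by decide +kernel
theorem w5 : ∀ a : I27, a.1 = 2 → wt a 5 = 0 := by decide +kernel
theorem wG : ∀ a : I27, a.1 = 0 → wt a 0 + wt a 1 + 2 * wt a 2 + 3 * wt a 3 + 2 * wt a 4 + wt a 5 = 0 := by
  decide +kernel

/-- the coefficients of the sixth torus element -/
def gv (n : ℕ) : ℕ := [1, 1, 2, 3, 2, 1].getD n 0

def cG (K : Type*) [Field K] : chevE6.Idx → K := Sum.elim (fun i => ((gv i.val : ℕ) : K)) fun _ => 0

theorem cG_r : (∑ r : Fin chevE6.nroots, cG K (Sum.inr r) • Nm K r.val) = 0 :=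
  Finset.sum_eq_zero fun _ _ => zero_smul _ _

theorem cG_l (a b : I27) : (∑ i : Fin chevE6.rank, (cG K (Sum.inl i) • Hm K i.val) a b) =
    Hm K 0 a b + Hm K 1 a b + 2 * Hm K 2 a b + 3 * Hm K 3 a b + 2 * Hm K 4 a b + Hm K 5 a b := by
  show (∑ i : Fin 6, (((gv i.val : ℕ) : K) • Hm K i.val) a b) = _
  rw [Fin.sum_univ_six]
  simp only [Matrix.smul_apply, smul_eq_mul]
  show ((1 : ℕ) : K) * _ + ((1 : ℕ) : K) * _ + ((2 : ℕ) : K) * _ + ((3 : ℕ) : K) * _ + ((2 : ℕ) : K) * _ +
    ((1 : ℕ) : K) * _ = _
  push_cast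
  rw [one_mul, one_mul, one_mul]
  rfl

theorem cG_s (M : Matrix chevE6.Idx chevE6.Idx K) (row : chevE6.Idx) : (∑ col, M row col * cG K col) =
    M row (Sum.inl (0 : Fin 6)) + M row (Sum.inl (1 : Fin 6)) +
      2 * M row (Sum.inl (2 : Fin 6)) + 3 * M row (Sum.inl (3 : Fin 6)) + 2 * M row (Sum.inl (4 : Fin 6)) +
      M row (Sum.inl (5 : Fin 6)) := by
  rw [Fintype.sum_sum_type]
  have e2 : (∑ r : Fin chevE6.nroots, M row (Sum.inr r) * cG K (Sum.inr r)) = 0 :=
    Finset.sum_eq_zero fun _ _ => mul_zero _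
  rw [e2, add_zero]
  show (∑ i : Fin 6, M row (Sum.inl i) * ((gv i.val : ℕ) : K)) = _
  rw [Fin.sum_univ_six]
  show _ * ((1 : ℕ) : K) + _ * ((1 : ℕ) : K) + _ * ((2 : ℕ) : K) + _ * ((3 : ℕ) : K) + _ * ((2 : ℕ) : K) +
    _ * ((1 : ℕ) : K) = _
  push_cast
  ring

/-- **The sum of the traces over the coset vanishes.** -/
theorem trace_std (h3 : (3 : K) ≠ 0) (hζ : IsPrimitiveRoot ζ 3) {x y : ↥(Zgrp K)}
    (hx : ((x : GL I27 K) : Matrix I27 I27 K) = Matrix.diagonal (dS ζ)) {e : Fin 3} (he : e ≠ 0)
    (hy : ((y : GL I27 K) : Matrix I27 I27 K) * Matrix.diagonal (dS ζ) =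
      ζ ^ e.val • (Matrix.diagonal (dS ζ) * ((y : GL I27 K) : Matrix I27 I27 K))) :
    LinearMap.trace K _ (L K y) + LinearMap.trace K _ (L K (x * y)) + LinearMap.trace K _ (L K (x * x * y)) = 0 := by
  classical
  obtain ⟨Y, hY⟩ : ∃ Y, Y = ((y : GL I27 K) : Matrix I27 I27 K) := ⟨_, rfl⟩
  obtain ⟨Yi, hYi⟩ : ∃ Yi, Yi = (((y : GL I27 K)⁻¹ : GL I27 K) : Matrix I27 I27 K) := ⟨_, rfl⟩
  have hYY : Y * Yi = 1 := by rw [hY, hYi, ← Units.val_mul, mul_inv_cancel, Units.val_one]
  obtain ⟨M, hM⟩ : ∃ M, M = (((ad K y : ↥(chevE6.group K)) : GL chevE6.Idx K) : Matrix chevE6.Idx chevE6.Idx K) :=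
    ⟨_, rfl⟩
  have hP : E6Min.Adjoint.P Y M := by rw [hY, hM]; exact ad_P y
  rw [← hY] at hy
  -- entries at the roots
  have hroot : ∀ r : Fin chevE6.nroots, dL ζ (Sum.inr r) = 1 → M (Sum.inr r) (Sum.inr r) = 0 := by
    intro r hr1
    have hr := lt72 r
    have hdvd : (rowN r.val / 9 + 2 * (srN r.val (rowN r.val) / 9)) % 3 = 0 := by
      by_contra hne
      exact hζ.pow_ne_one_of_pos_of_lt hne (Nat.mod_lt _ (by norm_num)) hr1
    -- the killed block
    have hz := allLt_spec zer_all _ hr
    have hblock : ∃ j : Fin 3, (∀ a : I27, a.1 = j → sg r.val a = 0) ∧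
        ∀ k : Fin 3, k ≠ j → ∃ m : I27, m.1 = k ∧ sg r.val m ≠ 0 := by
      have z1 : ∀ j : Fin 3, zer r.val j.val = true → ∀ a : I27, a.1 = j → sg r.val a = 0 := by
        intro j hj a ha
        have ha1 := a.2.1.isLt
        have ha2 := a.2.2.isLt
        have hj' : allLt 9 (fun a => (ent r.val (9 * j.val + a) < 32 : Bool)) = true := hj
        have := allLt_spec hj' (3 * a.2.1.val + a.2.2.val) (by omega)
        rw [decide_eq_true_eq] at this
        apply sg_of_lt
        have hcode : code a = 9 * j.val + (3 * a.2.1.val + a.2.2.val) := by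
          rw [← ha]; unfold code; omega
        rw [hcode]
        exact this
      have z2 : ∀ k : Fin 3, zer r.val k.val = false → ∃ m : I27, m.1 = k ∧ sg r.val m ≠ 0 := by
        intro k hk
        obtain ⟨a, ha, h1⟩ := H944.E6T.exists_of_not_allLt hk
        rw [decide_eq_false_iff_not] at h1
        have hklt := k.isLt
        refine ⟨dec (9 * k.val + a), ?_, ?_⟩
        · apply Fin.ext
          rw [dec_fst (by omega)]
          omega
        · apply sg_of_ge
          rw [code_dec (by omega)]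
          exact h1
      simp only [Bool.or_eq_true, Bool.and_eq_true, Bool.not_eq_true', beq_eq_false_iff_ne] at hz
      rcases hz with ((hz | ⟨⟨a0, a1⟩, a2⟩) | ⟨⟨a0, a1⟩, a2⟩) | ⟨⟨a0, a1⟩, a2⟩
      · exact absurd hdvd hz
      · refine ⟨0, z1 0 a0, ?_⟩
        intro k hk
        have hk' : k = 0 ∨ k = 1 ∨ k = 2 := (by decide : ∀ i : Fin 3, i = 0 ∨ i = 1 ∨ i = 2) k
        rcases hk' with rfl | rfl | rfl
        · exact absurd rfl hk
        · exact z2 1 a1
        · exact z2 2 a2
      · refine ⟨1, z1 1 a0, ?_⟩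
        intro k hk
        have hk' : k = 0 ∨ k = 1 ∨ k = 2 := (by decide : ∀ i : Fin 3, i = 0 ∨ i = 1 ∨ i = 2) k
        rcases hk' with rfl | rfl | rfl
        · exact z2 0 a1
        · exact absurd rfl hk
        · exact z2 2 a2
      · refine ⟨2, z1 2 a0, ?_⟩
        intro k hk
        have hk' : k = 0 ∨ k = 1 ∨ k = 2 := (by decide : ∀ i : Fin 3, i = 0 ∨ i = 1 ∨ i = 2) k
        rcases hk' with rfl | rfl | rfl
        · exact z2 0 a1
        · exact z2 1 a2
        · exact absurd rfl hk
    obtain ⟨j, hj1, hj2⟩ := hblock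
    obtain ⟨m, hm1, hm2⟩ := hj2 (j - e) (by
      intro h
      exact he (by simpa using h))
    have h0 := row_kill hζ hy hYY (hP (Sum.inr r)) (j := j) (fun a ha b => by
      show Nm K r.val a b = 0
      rw [Nm_apply, hj1 a ha]
      simp) (m := m) (by rw [hm1]; exact sub_add_cancel j e) (sr r.val m)
    rw [comb_apply_gen _ hm2] at h0
    have h4 : ((sg r.val m : ℤ) : K) ≠ 0 := H944.E6T.sg_cast_ne_zero hm2
    exact (mul_eq_zero.1 h0).resolve_right h4
  -- the torus
  have htor : ∀ (c : chevE6.Idx → K) (j : Fin 3), (∀ a : I27, a.1 = j → ∀ b, comb c a b = 0) →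
      ∀ m : I27, m.1 = j - e → comb (fun row => ∑ col, M row col * c col) m m = 0 := by
    intro c j hc m hm
    exact row_kill hζ hy hYY (comb_mul_of hP c) hc (by rw [hm]; exact sub_add_cancel j e) m
  have hsingle : ∀ (col0 row : chevE6.Idx), (∑ col, M row col *
      (if col = col0 then (1 : K) else 0)) = M row col0 := by
    intro col0 row
    rw [Finset.sum_eq_single col0]
    · rw [if_pos rfl, mul_one]
    · intro u _ hu; rw [if_neg hu, mul_zero]
    · intro h; exact absurd (Finset.mem_univ _) h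
  have hH : ∀ (i : Fin chevE6.rank) (j : Fin 3), (∀ a : I27, a.1 = j → wt a i.val = 0) →
      ∀ m : I27, m.1 = j - e → comb (fun row => M row (Sum.inl i)) m m = 0 := by
    intro i j hw m hm
    obtain ⟨col0, hcol⟩ : ∃ col0 : chevE6.Idx, col0 = Sum.inl i := ⟨_, rfl⟩
    have h := htor (fun col => if col = col0 then (1 : K) else 0) j (fun a ha b => by
      have e1 : comb (fun col => if col = col0 then (1 : K) else 0) = Hm K i.val := by
        rw [comb_def, Finset.sum_eq_single col0]
        · rw [if_pos rfl, one_smul, hcol]; rfl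
        · intro u _ hu; rw [if_neg hu, zero_smul]
        · intro h; exact absurd (Finset.mem_univ _) h
      rw [e1, Hm_apply, hw a ha]
      simp) m hm
    simp only [hsingle] at h
    rw [hcol] at h
    exact h
  have hje : ∀ j : Fin 3, j - e ≠ j := by
    intro j h
    exact he (by simpa using h)
  have hG : ∀ m : I27, m.1 = 0 - e → comb (fun row => M row (Sum.inl (0 : Fin 6)) + M row (Sum.inl (1 : Fin 6)) +
      2 * M row (Sum.inl (2 : Fin 6)) + 3 * M row (Sum.inl (3 : Fin 6)) + 2 * M row (Sum.inl (4 : Fin 6)) +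
      M row (Sum.inl (5 : Fin 6))) m m = 0 := by
    intro m hm
    have h := htor (cG K) 0 (fun a ha b => by
      rw [comb_split, cG_r]
      rw [add_zero, Matrix.sum_apply, cG_l]
      by_cases hab : a = b
      · have hw := wG a ha
        have hw' := congrArg (fun z : ℤ => (z : K)) hw
        push_cast at hw'
        simp only [Hm_apply, if_pos hab]
        linear_combination hw'
      · simp only [Hm_apply, if_neg hab]; ring) m hm
    simp only [cG_s] at h
    exact h
  have t0 := ((functionals _ _ (hH (0 : Fin 6) 1 w0)).2.1 (hje 1)).1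
  have t2 := ((functionals _ _ (hH (2 : Fin 6) 1 w2)).2.1 (hje 1)).2
  have t1 := ((functionals _ _ (hH (1 : Fin 6) 0 w1)).1 (hje 0)).2
  have t4 := ((functionals _ _ (hH (4 : Fin 6) 2 w4)).2.2 (hje 2)).1
  have t5 := ((functionals _ _ (hH (5 : Fin 6) 2 w5)).2.2 (hje 2)).2
  have tG := ((functionals _ _ hG).1 (hje 0)).1
  have htorus : ∑ i : Fin 6, M (Sum.inl i) (Sum.inl i) = 0 := by
    have h : (3 : K) * ∑ i : Fin 6, M (Sum.inl i) (Sum.inl i) = 0 := by
      rw [Fin.sum_univ_six]
      linear_combination t0 + t1 + t2 + t4 + t5 + tG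
    exact (mul_eq_zero.1 h).resolve_left h3
  -- the traces
  have hX : (((ad K x : ↥(chevE6.group K)) : GL chevE6.Idx K) : Matrix chevE6.Idx chevE6.Idx K) =
      Matrix.diagonal (dL ζ) := by
    refine P_unique (g := (x : GL I27 K)) (ad_P x) ?_
    rw [hx]
    exact P_std hζ
  have trc : ∀ z : ↥(Zgrp K), LinearMap.trace K _ (L K z) =
      Matrix.trace ((((ad K z : ↥(chevE6.group K)) : GL chevE6.Idx K) : Matrix chevE6.Idx chevE6.Idx K)) := by
    intro z
    exact Matrix.trace_toLin'_eq _
  have m1 : (((ad K (x * y) : ↥(chevE6.group K)) : GL chevE6.Idx K) : Matrix chevE6.Idx chevE6.Idx K) =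
      Matrix.diagonal (dL ζ) * M := by
    rw [map_mul, Subgroup.coe_mul, Units.val_mul, hX, hM]
  have m2 : (((ad K (x * x * y) : ↥(chevE6.group K)) : GL chevE6.Idx K) : Matrix chevE6.Idx chevE6.Idx K) =
      Matrix.diagonal (dL ζ) * (Matrix.diagonal (dL ζ) * M) := by
    rw [map_mul, map_mul, Subgroup.coe_mul, Subgroup.coe_mul, Units.val_mul, Units.val_mul, hX, hM, mul_assoc]
  rw [trc, trc, trc, m1, m2, ← hM]
  simp only [Matrix.trace, Matrix.diag_apply, Matrix.diagonal_mul]
  rw [← Finset.sum_add_distrib, ← Finset.sum_add_distrib, Fintype.sum_sum_type]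
  have s1 : (∑ i : Fin chevE6.rank, (M (Sum.inl i) (Sum.inl i) + dL ζ (Sum.inl i) * M (Sum.inl i) (Sum.inl i) +
      dL ζ (Sum.inl i) * (dL ζ (Sum.inl i) * M (Sum.inl i) (Sum.inl i)))) = 0 := by
    have : ∀ i : Fin chevE6.rank, (M (Sum.inl i) (Sum.inl i) + dL ζ (Sum.inl i) * M (Sum.inl i) (Sum.inl i) +
      dL ζ (Sum.inl i) * (dL ζ (Sum.inl i) * M (Sum.inl i) (Sum.inl i))) = 3 * M (Sum.inl i) (Sum.inl i) := by
      intro i
      show _ + 1 * _ + 1 * (1 * _) = _
      ring
    rw [Finset.sum_congr rfl fun i _ => this i, ← Finset.mul_sum]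
    show 3 * ∑ i : Fin 6, M (Sum.inl i) (Sum.inl i) = 0
    rw [htorus, mul_zero]
  have s2 : (∑ r : Fin chevE6.nroots, (M (Sum.inr r) (Sum.inr r) + dL ζ (Sum.inr r) * M (Sum.inr r) (Sum.inr r) +
      dL ζ (Sum.inr r) * (dL ζ (Sum.inr r) * M (Sum.inr r) (Sum.inr r)))) = 0 := by
    refine Finset.sum_eq_zero fun r _ => ?_
    by_cases h1 : dL ζ (Sum.inr r) = 1
    · rw [hroot r h1]; ring
    · have h2 : dL ζ (Sum.inr r) ^ 3 = 1 := by
        show (ζ ^ _) ^ 3 = 1
        rw [← pow_mul, mul_comm, pow_mul, hζ.pow_eq_one, one_pow]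
      have h4 : (dL ζ (Sum.inr r) - 1) * (1 + dL ζ (Sum.inr r) + dL ζ (Sum.inr r) ^ 2) = 0 := by
        linear_combination h2
      have h5 := (mul_eq_zero.1 h4).resolve_left (sub_ne_zero.2 h1)
      linear_combination M (Sum.inr r) (Sum.inr r) * h5
  rw [s1, s2, add_zero]

end tr

universe u

/-! ### elements commuting up to a scalar -/

/-- the commutator of `x` and `y` is the scalar `c` -/
def Com {K : Type*} [Field K] (c : K) (x y : ↥(Zgrp K)) : Prop :=
  ((x : GL I27 K) : Matrix I27 I27 K) * ((y : GL I27 K) : Matrix I27 I27 K) =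
    c • (((y : GL I27 K) : Matrix I27 I27 K) * ((x : GL I27 K) : Matrix I27 I27 K))

theorem coe_scal {K : Type*} [Field K] (c : Kˣ) : ((scal c : GL I27 K) : Matrix I27 I27 K) = (c : K) • 1 := by
  rw [← Algebra.algebraMap_eq_smul_one]
  rfl

theorem Com.of_scal {K : Type*} [Field K] {c : Kˣ} {x y : ↥(Zgrp K)}
    (h : ((x * y * x⁻¹ * y⁻¹ : ↥(Zgrp K)) : GL I27 K) = scal c) : Com (c : K) x y := by
  have h1 : (x : GL I27 K) * (y : GL I27 K) = scal c * ((y : GL I27 K) * (x : GL I27 K)) := by
    rw [← h]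
    push_cast
    group
  have h2 := congrArg (fun g : GL I27 K => (g : Matrix I27 I27 K)) h1
  simp only [Units.val_mul, coe_scal] at h2
  rw [Com, h2, smul_mul_assoc, one_mul]

theorem Com.conj {K : Type*} [Field K] {c : K} {x y : ↥(Zgrp K)} (h : Com c x y) (g : ↥(Zgrp K)) :
    Com c (g * x * g⁻¹) (g * y * g⁻¹) := by
  have e : ∀ u v : ↥(Zgrp K), ((((g * u * g⁻¹ : ↥(Zgrp K)) : GL I27 K) : Matrix I27 I27 K) *
      (((g * v * g⁻¹ : ↥(Zgrp K)) : GL I27 K) : Matrix I27 I27 K)) =
      ((g : GL I27 K) : Matrix I27 I27 K) * (((u : GL I27 K) : Matrix I27 I27 K) * ((v : GL I27 K) : Matrix I27 I27 K)) *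
        (((g : GL I27 K)⁻¹ : GL I27 K) : Matrix I27 I27 K) := by
    intro u v
    rw [← Units.val_mul, ← Units.val_mul, ← Units.val_mul, ← Units.val_mul]
    congr 1
    push_cast
    group
  rw [Com, e, e, h, Matrix.mul_smul, Matrix.smul_mul]

theorem Com.map {F K : Type u} [Field F] [Field K] (f : F →+* K) {c : F} {x y : ↥(Zgrp F)} (h : Com c x y) :
    Com (f c) (H944.E6T.jm f x) (H944.E6T.jm f y) := by
  rw [Com, H944.E6T.coe_jm, H944.E6T.coe_jm, ← Matrix.map_mul, h, ← Matrix.map_mul]
  ext i j
  rw [Matrix.map_apply, Matrix.smul_apply, Matrix.smul_apply, Matrix.map_apply, smul_eq_mul, smul_eq_mul, map_mul]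

/-- conjugation by `y` multiplies `x` by a scalar -/
theorem Com.ev_eq {K : Type*} [Field K] {c : K} (hc : c ≠ 0) {x y : ↥(Zgrp K)} (h : Com c x y) (μ : K) :
    ev (V K x) (c * μ) = ev (V K x) μ := by
  rw [← ev_conj (V K) y x μ]
  unfold ev
  suffices hs : Module.End.eigenspace (V K x) (c * μ) = Module.End.eigenspace (V K (y * x * y⁻¹)) μ by rw [hs]
  ext v
  rw [Module.End.mem_eigenspace_iff, Module.End.mem_eigenspace_iff]
  have h1 : V K x = c • V K (y * x * y⁻¹) := by
    have h2 : ((x : GL I27 K) : Matrix I27 I27 K) =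
        c • (((y * x * y⁻¹ : ↥(Zgrp K)) : GL I27 K) : Matrix I27 I27 K) := by
      have h3 : ((y : GL I27 K) : Matrix I27 I27 K) * (((y : GL I27 K)⁻¹ : GL I27 K) : Matrix I27 I27 K) = 1 := by
        rw [← Units.val_mul, mul_inv_cancel, Units.val_one]
      have h4 := congrArg (fun M => M * (((y : GL I27 K)⁻¹ : GL I27 K) : Matrix I27 I27 K)) h
      simp only [Matrix.mul_assoc, h3, Matrix.mul_one, Matrix.smul_mul] at h4
      rw [h4]
      push_cast
      rw [Matrix.mul_assoc]
    refine LinearMap.ext fun w => ?_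
    rw [H163.E6.V_apply, LinearMap.smul_apply, H163.E6.V_apply, h2, Matrix.smul_mulVec]
  rw [h1, LinearMap.smul_apply, mul_smul]
  constructor
  · intro h2
    exact smul_right_injective _ hc h2
  · intro h2
    rw [h2]

/-- **The trace identity**, algebraically closed fields. -/
theorem trace_sum_closed {K : Type*} [Field K] [IsAlgClosed K] (p : ℕ) [Fact p.Prime] [CharP K p] (hK : HAlg p K)
    (hp : p ≠ 3) (h3 : (3 : K) ≠ 0) {c : K} (hc : IsPrimitiveRoot c 3) {x y : ↥(Zgrp K)} (hx : x ^ 3 = 1)
    (h24 : ev (L K x) 1 = 24) (hxy : Com c x y) :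
    LinearMap.trace K _ (L K y) + LinearMap.trace K _ (L K (x * y)) + LinearMap.trace K _ (L K (x * x * y)) = 0 := by
  obtain ⟨g, hg⟩ := exists_std p hK hp hc.inv hx h24
  have h1 := hxy.conj g
  have h2 : (((g * y * g⁻¹ : ↥(Zgrp K)) : GL I27 K) : Matrix I27 I27 K) * Matrix.diagonal (dS c⁻¹) =
      c⁻¹ ^ (1 : Fin 3).val • (Matrix.diagonal (dS c⁻¹) *
        (((g * y * g⁻¹ : ↥(Zgrp K)) : GL I27 K) : Matrix I27 I27 K)) := by
    have hc0 : c ≠ 0 := hc.ne_zero (by norm_num)
    rw [Com, hg] at h1
    have h3 : c⁻¹ ^ (1 : Fin 3).val = c⁻¹ := pow_one _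
    rw [h3]
    unfold dS
    rw [h1, smul_smul, inv_mul_cancel₀ hc0, one_smul]
  have h4 := trace_std h3 hc.inv hg (by decide : (1 : Fin 3) ≠ 0) h2
  have e1 : g * x * g⁻¹ * (g * y * g⁻¹) = g * (x * y) * g⁻¹ := by group
  have e2 : g * x * g⁻¹ * (g * x * g⁻¹) * (g * y * g⁻¹) = g * (x * x * y) * g⁻¹ := by group
  rw [e1, e2, H944.E6T.trace_conj, H944.E6T.trace_conj, H944.E6T.trace_conj] at h4
  exact h4

open H944.E6T (jm ev_V ev_L trace_V trace_L ad_jm jm_injective) in
/-- **The trace identity.** -/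
theorem trace_sum (p : ℕ) [Fact p.Prime] {F : Type u} [Field F] [Finite F] [CharP F p]
    (hp : p ≠ 3) {c : F} (hc : IsPrimitiveRoot c 3) {x y : ↥(Zgrp F)} (hx : x ^ 3 = 1)
    (h24 : ev (L F x) 1 = 24) (hxy : Com c x y) :
    LinearMap.trace F _ (L F y) + LinearMap.trace F _ (L F (x * y)) + LinearMap.trace F _ (L F (x * x * y)) = 0 := by
  have : CharP (AlgebraicClosure F) p := charP_of_injective_algebraMap (algebraMap F (AlgebraicClosure F)).injective p
  have h3 : (3 : AlgebraicClosure F) ≠ 0 := by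
    intro h
    have h1 : ((3 : ℕ) : AlgebraicClosure F) = 0 := by exact_mod_cast h
    rw [CharP.cast_eq_zero_iff (AlgebraicClosure F) p] at h1
    exact hp ((Nat.prime_dvd_prime_iff_eq (Fact.out) Nat.prime_three).1 h1)
  set f := algebraMap F (AlgebraicClosure F) with hf
  have h1 := trace_sum_closed p (Cfsg.Agent.H944.RootVals.hAlg_closure p F) hp h3
    (hc.map_of_injective f.injective) (x := jm f x) (y := jm f y) (by rw [← map_pow, hx, map_one])
    (by rw [← map_one f, ev_L, h24]) (hxy.map f)
  rw [← map_mul, ← map_mul, ← map_mul, trace_L, trace_L, trace_L, ← map_add, ← map_add] at h1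
  exact (map_eq_zero_iff f f.injective).1 h1

open H944.E6T (jm ev_V ev_L trace_V trace_L ad_jm jm_injective exists_mult spec3 dg) in
/-- the multiplicities of an element of order 3 conjugate to a multiple -/
theorem nine (p : ℕ) [Fact p.Prime] {F : Type u} [Field F] [Finite F] [CharP F p]
    (hp : p ≠ 3) {c : F} (hc : IsPrimitiveRoot c 3) {x y : ↥(Zgrp F)} (hx : x ^ 3 = 1) (hx1 : ad F x ≠ 1)
    (hxy : Com c x y) : ev (V F x) 1 = 9 ∧
      ((ev (L F x) 1 = 30 ∧ LinearMap.trace F _ (L F x) = 6) ∨
        (ev (L F x) 1 = 24 ∧ LinearMap.trace F _ (L F x) = -3)) := by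
  have : CharP (AlgebraicClosure F) p := charP_of_injective_algebraMap (algebraMap F (AlgebraicClosure F)).injective p
  set f := algebraMap F (AlgebraicClosure F) with hf
  have hcop : (3 : ℕ).Coprime p := (Nat.coprime_primes Nat.prime_three Fact.out).2 (Ne.symm hp)
  have hcK := hc.map_of_injective f.injective
  obtain ⟨q, hq, hM⟩ := exists_mult p (Cfsg.Agent.H944.RootVals.hAlg_closure p F) (Or.inr (Or.inl rfl)) hcop
    hcK (x := jm f x) (by rw [← map_pow, hx, map_one])
  have hT := (H163.E6.Tor.tab p (F := F)).three hp x hx1 hx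
  have h0 : ev (V F x) 1 = dg q.1 0 := by
    rw [← hM.evV 0 (by norm_num), pow_zero, ← map_one f, ev_V]
  have hc0 : f c ≠ 0 := hcK.ne_zero (by norm_num)
  have h1 : dg q.1 1 = dg q.1 0 := by
    rw [← hM.evV 1 (by norm_num), ← hM.evV 0 (by norm_num), ← (hxy.map f).ev_eq hc0 (f c ^ 0)]
    congr 1
    ring
  have h2 : dg q.1 2 = dg q.1 1 := by
    rw [← hM.evV 2 (by norm_num), ← hM.evV 1 (by norm_num), ← (hxy.map f).ev_eq hc0 (f c ^ 1)]
    congr 1
    ring
  have h3 := spec3 q hq
  have hL : ev (L F x) 1 = dg q.2 0 := by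
    rw [← hM.evL 0 (by norm_num), pow_zero, ← map_one f, ev_L]
  rcases h3 with h | h | h | h | h | h
  · exfalso
    rw [h] at hL
    rcases hT with t | t | t | t
    all_goals (have := t.2.1; omega)
  · omega
  · refine ⟨by omega, Or.inl ⟨by omega, ?_⟩⟩
    rcases hT with t | t | t | t
    · have := t.1; omega
    · exact t.2.2.2
    · have := t.2.1; omega
    · have := t.1; omega
  · refine ⟨by omega, Or.inr ⟨by omega, ?_⟩⟩
    rcases hT with t | t | t | t
    · have := t.1; omega
    · have := t.2.1; omega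
    · exact t.2.2.2
    · have := t.1; omega
  · omega
  · omega

/-! ### the alternating groups -/

section grp

variable {F : Type u} [Field F] [Finite F]

omit [Finite F] in
theorem L_of_ad {x y : ↥(Zgrp F)} (h : ad F x = ad F y) : L F x = L F y := by
  rw [H163.E6.L_eq, H163.E6.L_eq, h]

omit [Finite F] in
theorem pow_three_mul {c : F} (hc : c ^ 3 = 1) {x y : ↥(Zgrp F)} (h : Com c x y) (hx : x ^ 3 = 1) (hy : y ^ 3 = 1) :
    (x * y) ^ 3 = 1 := by
  apply Subtype.ext
  apply Units.ext
  have hX : ((x : GL I27 F) : Matrix I27 I27 F) ^ 3 = 1 := by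
    have := congrArg (fun g : ↥(Zgrp F) => ((g : GL I27 F) : Matrix I27 I27 F)) hx
    simpa using this
  have hY : ((y : GL I27 F) : Matrix I27 I27 F) ^ 3 = 1 := by
    have := congrArg (fun g : ↥(Zgrp F) => ((g : GL I27 F) : Matrix I27 I27 F)) hy
    simpa using this
  have h1 : ((((x * y) ^ 3 : ↥(Zgrp F)) : GL I27 F) : Matrix I27 I27 F) =
      (((x : GL I27 F) : Matrix I27 I27 F) * ((y : GL I27 F) : Matrix I27 I27 F)) ^ 3 := by simp
  rw [h1]
  unfold Com at h
  generalize ((x : GL I27 F) : Matrix I27 I27 F) = X at *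
  generalize ((y : GL I27 F) : Matrix I27 I27 F) = Y at *
  have hc0 : c ≠ 0 := by
    rintro rfl
    norm_num at hc
  have e : Y * X = c⁻¹ • (X * Y) := by rw [h, smul_smul, inv_mul_cancel₀ hc0, one_smul]
  have e2 : (X * Y) ^ 3 = c⁻¹ ^ 3 • (X ^ 3 * Y ^ 3) := by
    have e3 : (X * Y) ^ 3 = X * (Y * X) * (Y * X) * Y := by
      simp only [pow_succ, pow_zero, one_mul, mul_assoc]
    have e4 : X * (X * Y) * (X * Y) * Y = X * X * (Y * X) * Y * Y := by simp only [mul_assoc]
    rw [e3, e]
    simp only [Matrix.mul_smul, Matrix.smul_mul, smul_smul]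
    rw [e4, e]
    simp only [Matrix.mul_smul, Matrix.smul_mul, smul_smul]
    have e5 : X * X * (X * Y) * Y * Y = X ^ 3 * Y ^ 3 := by
      simp only [pow_succ, pow_zero, one_mul, mul_assoc]
    rw [e5]
    congr 1
    ring
  rw [e2, hX, hY, inv_pow, hc, inv_one, one_smul, one_mul]
  rfl

theorem core (p : ℕ) [Fact p.Prime] [CharP F p] (hp : p ≠ 3) {A : Type*} [Group A]
    {φ : A →* ↥(chevE6.group F)} {a b g : A} (hab : a * b = b * a) (ha3 : a ^ 3 = 1) (hb3 : b ^ 3 = 1)
    (hg : g * a * g⁻¹ = b) (hg' : g * b * g⁻¹ = a⁻¹) (ha1 : φ a ≠ 1) (hab1 : φ (a * b) ≠ 1)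
    (hnc : ∀ x y, ad F x = φ a → ad F y = φ b → x ^ 3 = 1 ∧ y ^ 3 = 1 ∧ ∃ c : F, IsPrimitiveRoot c 3 ∧ Com c x y)
    {z : ↥(Zgrp F)} (hz : ad F z = φ a ∨ ad F z = φ (a * b)) :
    z ^ 3 = 1 ∧ ev (V F z) 1 = 9 ∧ ev (L F z) 1 = 30 := by
  obtain ⟨x, y, hx, hy, hzz⟩ : ∃ x y : ↥(Zgrp F), ad F x = φ a ∧ ad F y = φ b ∧ (z = x ∨ z = x * y) := by
    obtain ⟨y, hy⟩ := ad_surjective (F := F) (φ b)
    rcases hz with hz | hz
    · exact ⟨z, y, hz, hy, Or.inl rfl⟩
    · refine ⟨z * y⁻¹, y, ?_, hy, Or.inr (by group)⟩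
      rw [map_mul, hz, map_inv, hy, map_mul, mul_inv_cancel_right]
  obtain ⟨hx3, hy3, c, hc, hcom⟩ := hnc x y hx hy
  have h3F : (3 : F) ≠ 0 := by
    intro h
    have h1 : ((3 : ℕ) : F) = 0 := by exact_mod_cast h
    rw [CharP.cast_eq_zero_iff F p] at h1
    exact hp ((Nat.prime_dvd_prime_iff_eq (Fact.out) Nat.prime_three).1 h1)
  -- the traces on the adjoint module depend on the class only
  have key : ∀ {u v : ↥(Zgrp F)} {s t : A} (w : A), ad F u = φ s → ad F v = φ t → w * s * w⁻¹ = t →
      LinearMap.trace F _ (L F u) = LinearMap.trace F _ (L F v) := by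
    intro u v s t w hu hv hst
    obtain ⟨h, hh⟩ := ad_surjective (F := F) (φ w)
    rw [← H944.E6T.trace_conj (L F) h u]
    congr 1
    apply L_of_ad
    rw [map_mul, map_mul, map_inv, hh, hu, hv, ← hst]
    simp only [map_mul, map_inv]
  have ci : ∀ w s : A, w * s⁻¹ * w⁻¹ = (w * s * w⁻¹)⁻¹ := by intros; group
  have g2a : g * (g * a * g⁻¹) * g⁻¹ = a⁻¹ := by rw [hg, hg']
  have g3a : (g * g * g) * a * (g * g * g)⁻¹ = b⁻¹ := by
    have : (g * g * g) * a * (g * g * g)⁻¹ = g * (g * (g * a * g⁻¹) * g⁻¹) * g⁻¹ := by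
      simp only [mul_inv_rev, mul_assoc]
    rw [this, g2a, ci, hg]
  have g3b : (g * g * g) * b * (g * g * g)⁻¹ = a := by
    have : (g * g * g) * b * (g * g * g)⁻¹ = g * (g * (g * b * g⁻¹) * g⁻¹) * g⁻¹ := by
      simp only [mul_inv_rev, mul_assoc]
    rw [this, hg', ci, hg, ci, hg', inv_inv]
  have hai : a⁻¹ = a * a := by rw [inv_eq_iff_mul_eq_one, ← ha3]; simp only [pow_succ, pow_zero, one_mul, mul_assoc]
  have hbi : b⁻¹ = b * b := by rw [inv_eq_iff_mul_eq_one, ← hb3]; simp only [pow_succ, pow_zero, one_mul, mul_assoc]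
  have hbi3 : b * (b * b) = 1 := by rw [← hb3]; simp only [pow_succ, pow_zero, one_mul, mul_assoc]
  have cj : ∀ w s t : A, w * (s * t) * w⁻¹ = (w * s * w⁻¹) * (w * t * w⁻¹) := by intros; group
  have t1 : LinearMap.trace F _ (L F x) = LinearMap.trace F _ (L F y) := key g hx hy hg
  have t2 : LinearMap.trace F _ (L F (x * y)) = LinearMap.trace F _ (L F (x * x * y)) := by
    refine key (s := a * b) (t := a * a * b) g (by rw [map_mul, hx, hy, map_mul])
      (by simp only [map_mul, hx, hy]) ?_
    rw [cj, hg, hg', hai]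
    calc b * (a * a) = (b * a) * a := (mul_assoc _ _ _).symm
      _ = a * b * a := by rw [hab]
      _ = a * (b * a) := mul_assoc _ _ _
      _ = a * (a * b) := by rw [hab]
      _ = a * a * b := (mul_assoc _ _ _).symm
  -- the sum for `x, y`
  have hyad : ad F x ≠ 1 := by rw [hx]; exact ha1
  have hxyad : ad F (x * y) ≠ 1 := by rw [map_mul, hx, hy, ← map_mul]; exact hab1
  have hxy3 : (x * y) ^ 3 = 1 := pow_three_mul hc.pow_eq_one hcom hx3 hy3
  have hcom2 : Com c (x * y) y := by
    have h1 := congrArg (fun M => M * ((y : GL I27 F) : Matrix I27 I27 F)) hcom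
    simp only [Matrix.smul_mul, Matrix.mul_assoc] at h1
    unfold Com
    push_cast
    rw [Matrix.mul_assoc, h1]
  have n1 := nine p hp hc hx3 hyad hcom
  have n2 := nine p hp hc hxy3 hxyad hcom2
  have r1 : ev (L F x) 1 = 30 ∧ LinearMap.trace F _ (L F x) = 6 := by
    rcases n1.2 with h1 | h1
    · exact h1
    · exfalso
      have s1 := trace_sum p hp hc hx3 h1.1 hcom
      rw [← t1, ← t2, h1.2] at s1
      rcases n2.2 with h2 | h2
      · rw [h2.2] at s1
        apply h3F
        have : (3 : F) * 3 = 0 := by linear_combination s1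
        rcases mul_eq_zero.1 this with h | h <;> exact h
      · rw [h2.2] at s1
        apply h3F
        have : (3 : F) * 3 = 0 := by linear_combination -s1
        rcases mul_eq_zero.1 this with h | h <;> exact h
  have r2 : ev (L F (x * y)) 1 = 30 := by
    rcases n2.2 with h1 | h1
    · exact h1.1
    · exfalso
      have s1 := trace_sum p hp hc hxy3 h1.1 hcom2
      have t3 : LinearMap.trace F _ (L F (x * y)) = LinearMap.trace F _ (L F (x * y * y)) := by
        refine key (s := a * b) (t := a * b * b) (g * g * g) (by rw [map_mul, hx, hy, map_mul])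
          (by simp only [map_mul, hx, hy]) ?_
        rw [cj, g3a, g3b, hbi]
        calc b * b * a = b * (b * a) := mul_assoc _ _ _
          _ = b * (a * b) := by rw [hab]
          _ = b * a * b := (mul_assoc _ _ _).symm
          _ = a * b * b := by rw [hab]
      have t4 : LinearMap.trace F _ (L F y) = LinearMap.trace F _ (L F (x * y * (x * y) * y)) := by
        refine key (s := b) (t := a * b * (a * b) * b) g hy (by simp only [map_mul, hx, hy]) ?_
        rw [hg', hai]
        simp only [mul_assoc]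
        rw [← mul_assoc b a (b * b), ← hab, mul_assoc a b (b * b), hbi3, mul_one]
      rw [← t3, ← t4, ← t1, r1.2, h1.2] at s1
      apply h3F
      have : (3 : F) * 3 = 0 := by linear_combination s1
      rcases mul_eq_zero.1 this with h | h <;> exact h
  rcases hzz with rfl | rfl
  · exact ⟨hx3, n1.1, r1.1⟩
  · exact ⟨hxy3, n2.1, r2⟩

end grp

/-! ### elements of order 3 in `A₆`, `A₇` -/

section perms

open Equiv Equiv.Perm

theorem exists_perms {n : ℕ} (hn : n = 6 ∨ n = 7) : ∃ a b g u : Perm (Fin n),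
    IsThreeCycle a ∧ IsThreeCycle b ∧ a.Disjoint b ∧ sign g = 1 ∧ sign u = -1 ∧ g * a * g⁻¹ = b ∧
      g * b * g⁻¹ = a⁻¹ ∧ u * (a * b) * u⁻¹ = a * b := by
  rcases hn with rfl | rfl
  · refine ⟨swap 0 2 * swap 0 1, swap 3 5 * swap 3 4, swap 0 3 * swap 1 4 * swap 4 2 * swap 2 5,
      swap 0 3 * swap 1 4 * swap 2 5, isThreeCycle_swap_mul_swap_same (by decide) (by decide) (by decide),
      isThreeCycle_swap_mul_swap_same (by decide) (by decide) (by decide), ?_, ?_, ?_, ?_, ?_, ?_⟩
    · intro x; revert x; decide +kernel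
    · simp [sign_swap']
    · simp [sign_swap']
    all_goals (ext x; revert x; decide +kernel)
  · refine ⟨swap 0 2 * swap 0 1, swap 3 5 * swap 3 4, swap 0 3 * swap 1 4 * swap 4 2 * swap 2 5,
      swap 0 3 * swap 1 4 * swap 2 5, isThreeCycle_swap_mul_swap_same (by decide) (by decide) (by decide),
      isThreeCycle_swap_mul_swap_same (by decide) (by decide) (by decide), ?_, ?_, ?_, ?_, ?_, ?_⟩
    · intro x; revert x; decide +kernel
    · simp [sign_swap']
    · simp [sign_swap']
    all_goals (ext x; revert x; decide +kernel)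

theorem conj_std {n : ℕ} (hn : n = 6 ∨ n = 7) {a b u : Perm (Fin n)} (ha : IsThreeCycle a) (hb : IsThreeCycle b)
    (hab : a.Disjoint b) (hu : sign u = -1) (hu' : u * (a * b) * u⁻¹ = a * b) {c : Perm (Fin n)}
    (hc : orderOf c = 3) (hcs : sign c = 1) : ∃ w : Perm (Fin n), sign w = 1 ∧ (w * c * w⁻¹ = a ∨ w * c * w⁻¹ = a * b) := by
  obtain ⟨k, hk⟩ := cycleType_prime_order (σ := c) (by rw [hc]; exact Nat.prime_three)
  rw [hc] at hk
  have hsum := sum_cycleType_le (σ := c)
  rw [hk, Multiset.sum_replicate, Fintype.card_fin, smul_eq_mul] at hsum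
  have hk2 : k = 0 ∨ k = 1 := by rcases hn with rfl | rfl <;> omega
  rcases hk2 with rfl | rfl
  · have hc3 : IsThreeCycle c := hk
    have h5 : 5 ≤ Nat.card (Fin n) := by rw [Nat.card_fin]; rcases hn with rfl | rfl <;> norm_num
    have hca : c ∈ alternatingGroup (Fin n) := mem_alternatingGroup.2 hcs
    have haa : a ∈ alternatingGroup (Fin n) := mem_alternatingGroup.2 ha.sign
    have h1 := alternatingGroup.isThreeCycle_isConj h5 (σ := ⟨c, hca⟩) (τ := ⟨a, haa⟩) hc3 ha
    obtain ⟨w, hw⟩ := isConj_iff.1 h1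
    exact ⟨w, mem_alternatingGroup.1 w.2, Or.inl (congrArg Subtype.val hw)⟩
  · have h1 : IsConj c (a * b) := by
      rw [isConj_iff_cycleType_eq, hk, hab.cycleType_mul, ha.cycleType, hb.cycleType]
      rfl
    obtain ⟨w, hw⟩ := isConj_iff.1 h1
    rcases Int.units_eq_one_or (sign w) with h | h
    · exact ⟨w, h, Or.inr hw⟩
    · refine ⟨u * w, by rw [Equiv.Perm.sign_mul, h, hu]; rfl, Or.inr ?_⟩
      rw [mul_inv_rev, ← hu', ← hw]
      simp only [mul_assoc]

end perms

/-- **`Cov.type_thirty`** from `Cov.not_comm`. -/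
theorem type_thirty_of {F : Type u} [Field F] [Finite F] {n : ℕ}
    {φ : ↥(alternatingGroup (Fin n)) →* ↥(chevE6.group F)} (hn : n = 6 ∨ n = 7) (hφ : Function.Injective φ) {ω : Fˣ}
    (hc : H163.E6.Cover φ ω)
    (not_comm : ∀ {a b : ↥(alternatingGroup (Fin n))}, (a : Equiv.Perm (Fin n)).cycleType = {3} →
      (b : Equiv.Perm (Fin n)).cycleType = {3} → (a : Equiv.Perm (Fin n)).Disjoint b →
      ∀ {x y : ↥(Zgrp F)}, ad F x = φ a → ad F y = φ b →
        x ^ 3 = 1 ∧ ((x * y * x⁻¹ * y⁻¹ : ↥(Zgrp F)) : GL I27 F) = scal ω ∨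
          x ^ 3 = 1 ∧ ((x * y * x⁻¹ * y⁻¹ : ↥(Zgrp F)) : GL I27 F) = scal (ω⁻¹))
    {a : ↥(alternatingGroup (Fin n))} (ha : orderOf a = 3) {x : ↥(Zgrp F)} (hx : ad F x = φ a) :
    x ^ 3 = 1 ∧ ev (V F x) 1 = 9 ∧ ev (L F x) 1 = 30 := by
  obtain ⟨p, hp⟩ := CharP.exists F
  have hpp : Fact p.Prime := by
    have : NeZero p := ⟨fun h0 => by
      subst h0
      have := CharP.charP_to_charZero F
      exact not_finite F⟩
    exact ⟨(CharP.char_is_prime_or_zero F p).resolve_right this.out⟩
  have hωp : IsPrimitiveRoot (ω : F) 3 := by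
    rw [IsPrimitiveRoot.coe_units_iff]
    refine IsPrimitiveRoot.mk_of_lt ω (by norm_num) hc.2.1 fun l hl0 hl3 => ?_
    interval_cases l
    · rw [pow_one]; exact hc.1
    · intro h2
      apply hc.1
      have h3 := hc.2.1
      rwa [pow_succ, h2, one_mul] at h3
  have hp3 : p ≠ 3 := by
    rintro rfl
    have h1 : ((ω : F) - 1) ^ 3 = 0 := by
      rw [sub_pow_char, one_pow, hωp.pow_eq_one, sub_self]
    have h2 : (ω : F) = 1 := sub_eq_zero.1 (pow_eq_zero_iff (by norm_num) |>.1 h1)
    exact hωp.ne_one (by norm_num) h2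
  obtain ⟨a0, b0, g0, u0, h1, h2, h3, h4, h5, h6, h7, h8⟩ := exists_perms hn
  have ha0 : a0 ∈ alternatingGroup (Fin n) := Equiv.Perm.mem_alternatingGroup.2 h1.sign
  have hb0 : b0 ∈ alternatingGroup (Fin n) := Equiv.Perm.mem_alternatingGroup.2 h2.sign
  have hg0 : g0 ∈ alternatingGroup (Fin n) := Equiv.Perm.mem_alternatingGroup.2 h4
  set A : ↥(alternatingGroup (Fin n)) := ⟨a0, ha0⟩ with hA
  set B : ↥(alternatingGroup (Fin n)) := ⟨b0, hb0⟩ with hB
  set G : ↥(alternatingGroup (Fin n)) := ⟨g0, hg0⟩ with hG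
  obtain ⟨w0, hw0, hw⟩ := conj_std hn h1 h2 h3 h5 h8 (c := (a : Equiv.Perm (Fin n)))
    (by rw [Subgroup.orderOf_coe]; exact ha) (Equiv.Perm.mem_alternatingGroup.1 a.2)
  set W : ↥(alternatingGroup (Fin n)) := ⟨w0, Equiv.Perm.mem_alternatingGroup.2 hw0⟩ with hW
  obtain ⟨h, hh⟩ := ad_surjective (F := F) (φ W)
  have hAB : A * B = B * A := Subtype.ext h3.commute
  have hA3 : A ^ 3 = 1 := Subtype.ext (by
    show a0 ^ 3 = 1
    rw [← h1.orderOf]; exact pow_orderOf_eq_one _)
  have hB3 : B ^ 3 = 1 := Subtype.ext (by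
    show b0 ^ 3 = 1
    rw [← h2.orderOf]; exact pow_orderOf_eq_one _)
  have hA1 : A ≠ 1 := by
    intro h0
    have h9 : a0 = 1 := congrArg Subtype.val h0
    have := h1.orderOf
    rw [h9, orderOf_one] at this
    omega
  have hAB1 : A * B ≠ 1 := by
    intro h0
    have h9 : a0 * b0 = 1 := congrArg Subtype.val h0
    have h10 := h3.cycleType_mul
    rw [h9, Equiv.Perm.cycleType_one, h1.cycleType, h2.cycleType] at h10
    simp at h10
  have hcore := core p hp3 (φ := φ) (a := A) (b := B) (g := G) hAB hA3 hB3 (Subtype.ext h6) (Subtype.ext h7)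
    (fun h0 => hA1 (hφ (by rw [h0, map_one]))) (fun h0 => hAB1 (hφ (by rw [h0, map_one]))) (by
      intro x y hx hy
      have k1 := not_comm (a := A) (b := B) h1.cycleType h2.cycleType h3 hx hy
      have k2 := not_comm (a := B) (b := A) h2.cycleType h1.cycleType h3.symm hy hx
      refine ⟨?_, ?_, ?_⟩
      · rcases k1 with k | k <;> exact k.1
      · rcases k2 with k | k <;> exact k.1
      · rcases k1 with k | k
        · exact ⟨ω, hωp, Com.of_scal k.2⟩
        · refine ⟨_, ?_, Com.of_scal k.2⟩
          rw [Units.val_inv_eq_inv_val]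
          exact hωp.inv) (z := h * x * h⁻¹) (by
      rcases hw with hw | hw
      · left
        have : W * a * W⁻¹ = A := Subtype.ext hw
        rw [← this]; simp only [map_mul, map_inv, hh, hx]
      · right
        have : W * a * W⁻¹ = A * B := Subtype.ext hw
        rw [← this]; simp only [map_mul, map_inv, hh, hx])
  rw [ev_conj, ev_conj] at hcore
  refine ⟨?_, hcore.2⟩
  have := hcore.1
  rw [conj_pow, mul_inv_eq_one] at this
  exact mul_left_cancel (a := h) (by rw [this, mul_one])

end Cfsg.Agent.H882.E6T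

namespace Cfsg.Agent.H163.E6.Cov

open Cfsg.Lie Module
open Cfsg.Agent.ChevalleyStructure.E6Min.Tables Cfsg.Agent.ChevalleyStructure.E6Min.Basic
  Cfsg.Agent.ChevalleyStructure.E6Min.Adjoint
open Cfsg.Agent.H952.F4 (ev es matRep)

universe u

variable {F : Type u} [Field F] [Finite F] {n : ℕ} {φ : ↥(alternatingGroup (Fin n)) →* ↥(chevE6.group F)}

/-- **The elements of order 3 are of type `D₄T₂`.** -/
theorem type_thirty (hn : n = 6 ∨ n = 7) (hφ : Function.Injective φ) {ω : Fˣ} (hc : Cover φ ω)
    {a : ↥(alternatingGroup (Fin n))} (ha : orderOf a = 3) {x : ↥(Zgrp F)} (hx : ad F x = φ a) :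
    x ^ 3 = 1 ∧ ev (V F x) 1 = 9 ∧ ev (L F x) 1 = 30 :=
  H882.E6T.type_thirty_of hn hφ hc (fun ha hb hab _ _ hx hy => not_comm hn hφ hc ha hb hab hx hy) ha hx

end Cfsg.Agent.H163.E6.Cov
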