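import Cfsg.Agent.H958.SixC.Hex2
import Cfsg.Agent.H801.SixS

/-!
# S5927, S5928, `sixc_two` (helper882): types of the three-dimensional modules, alternating maps

* `types` : a module of dimension three has a vector fixed by `K₁` and a functional fixed by `K₂`, or vice versa;
* `cross` : the span of the values of an equivariant alternating map on a module of dimension three with a functional
  fixed by `K` contains a vector fixed by `K`.
-/

set_option autoImplicit false
set_option linter.unusedSectionVars false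

namespace Cfsg.Agent.H882.SixT

open Module
open Cfsg.Agent.H952.F4 (ev es)
open Cfsg.Agent.H958.SixC

/-- functionals fixed by the subgroup `⟨z, xx z g⟩` -/
def KFd {F P M : Type*} [Field F] [Group P] [AddCommGroup M] [Module F M] (ρ : Representation F P M) (z g : P)
    (f : Module.Dual F M) : Prop := (∀ v, f (ρ z v) = f v) ∧ ∀ v, f (ρ (xx z g) v) = f v

section
variable {F P M Y : Type*} [Field F] [Group P] [AddCommGroup M] [Module F M] [FiniteDimensional F M]
variable [AddCommGroup Y] [Module F Y] [FiniteDimensional F Y]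
variable {ζ z g₁ g₂ β t a : P} {ρ : Representation F P M} {σ : Representation F P Y} {c : F}

theorem fixed_zero (hF : Full ζ z g₁ g₂ β t a) (hc : Ch ρ ζ c) {w : M} (h1 : ρ z w = w) (h2 : ρ (xx z g₁) w = w)
    (h3 : ρ (xx z g₂) w = w) : w = 0 := by
  have key : ∀ x : P, ρ x w = w := by
    intro x
    have hx : x ∈ Subgroup.closure {z, xx z g₁, xx z g₂} := by rw [hF.gen12]; exact Subgroup.mem_top x
    induction hx using Subgroup.closure_induction with
    | mem y hy =>
      rcases hy with rfl | rfl | rfl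
      · exact h1
      · exact h2
      · exact h3
    | one => rw [map_one]; rfl
    | mul x y _ _ hx hy => rw [mul_ap, hy, hx]
    | inv x _ hx => exact inv_eq hx
  have h4 := key ζ
  rw [hc.act] at h4
  have h5 : (c - 1) • w = 0 := by rw [sub_smul, one_smul, h4, sub_self]
  exact (smul_eq_zero.1 h5).resolve_left (sub_ne_zero.2 hc.ne)

theorem functional_zero (hF : Full ζ z g₁ g₂ β t a) (hc : Ch ρ ζ c) {f : Module.Dual F M} (h1 : ∀ v, f (ρ z v) = f v)
    (h2 : ∀ v, f (ρ (xx z g₁) v) = f v) (h3 : ∀ v, f (ρ (xx z g₂) v) = f v) : f = 0 := by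
  have key : ∀ x : P, ∀ v, f (ρ x v) = f v := by
    intro x
    have hx : x ∈ Subgroup.closure {z, xx z g₁, xx z g₂} := by rw [hF.gen12]; exact Subgroup.mem_top x
    induction hx using Subgroup.closure_induction with
    | mem y hy =>
      rcases hy with rfl | rfl | rfl
      · exact h1
      · exact h2
      · exact h3
    | one => intro v; rw [map_one]; rfl
    | mul x y _ _ hx hy => intro v; rw [mul_ap, hx, hy]
    | inv x _ hx => intro v; rw [← hx, ap_inv]
  ext v
  have h4 := key ζ v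
  rw [hc.act, map_smul, smul_eq_mul] at h4
  have h5 : (c - 1) * f v = 0 := by rw [sub_mul, one_mul, h4, sub_self]
  rw [LinearMap.zero_apply]
  exact (mul_eq_zero.1 h5).resolve_left (sub_ne_zero.2 hc.ne)

theorem ev_one [CharP F 2] (hF : Full ζ z g₁ g₂ β t a) (hc : Ch ρ ζ c) (h3 : finrank F M = 3) : ev (ρ z) 1 = 1 := by
  have h1 := ev_le hF ρ hc
  have h2 := even_sub hF.h1.z5 hF.tt hF.tz ρ
  rw [h3] at h1 h2
  rcases h2 with ⟨k, hk⟩
  omega

theorem prop_vec {T : Module.End F M} (h1 : ev T 1 = 1) {u v : M} (hu : T u = u) (hv : T v = v) (u0 : u ≠ 0) :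
    ∃ s : F, v = s • u := by
  have hu' : u ∈ Module.End.eigenspace T 1 := by rw [Module.End.mem_eigenspace_iff, one_smul, hu]
  have hv' : v ∈ Module.End.eigenspace T 1 := by rw [Module.End.mem_eigenspace_iff, one_smul, hv]
  have h2 : finrank F ↥(Module.End.eigenspace T 1) = 1 := h1
  obtain ⟨s, hs⟩ := (finrank_eq_one_iff_of_nonzero' (⟨u, hu'⟩ : ↥(Module.End.eigenspace T 1))
    (fun h => u0 (congrArg Subtype.val h))).1 h2 ⟨v, hv'⟩
  exact ⟨s, (congrArg Subtype.val hs).symm⟩

theorem prop_fun {T : Module.End F M} (h1 : ev T 1 = 1) {f f' : Module.Dual F M} (hf : ∀ v, f (T v) = f v)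
    (hf' : ∀ v, f' (T v) = f' v) (f0 : f ≠ 0) : ∃ s : F, f' = s • f := by
  have h2 := Cfsg.Agent.H952.F4.Scott.rank_add_ev T
  have h3 := Subspace.finrank_add_finrank_dualAnnihilator_eq (LinearMap.range (T - 1))
  have h4 : finrank F ↥(LinearMap.range (T - 1)).dualAnnihilator = 1 := by omega
  have hm : ∀ h : Module.Dual F M, (∀ v, h (T v) = h v) → h ∈ (LinearMap.range (T - 1)).dualAnnihilator := by
    intro h hh
    rw [Submodule.mem_dualAnnihilator]
    rintro _ ⟨v, rfl⟩
    rw [LinearMap.sub_apply, Module.End.one_apply, map_sub, hh, sub_self]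
  obtain ⟨s, hs⟩ := (finrank_eq_one_iff_of_nonzero' (⟨f, hm f hf⟩ : ↥(LinearMap.range (T - 1)).dualAnnihilator)
    (fun h => f0 (congrArg Subtype.val h))).1 h4 ⟨f', hm f' hf'⟩
  exact ⟨s, (congrArg Subtype.val hs).symm⟩

/-- a module of dimension three has not both types -/
theorem not_both [CharP F 2] (hF : Full ζ z g₁ g₂ β t a) (hc : Ch ρ ζ c) (h3 : finrank F M = 3) {w w' : M}
    (k : KF ρ z g₁ w) (k' : KF ρ z g₂ w') (w0 : w ≠ 0) (w0' : w' ≠ 0) : False := by
  obtain ⟨s, rfl⟩ := prop_vec (ev_one hF hc h3) k.1 k'.1 w0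
  have hs : s ≠ 0 := by rintro rfl; exact w0' (zero_smul _ _)
  refine w0 (fixed_zero hF hc k.1 k.2 ?_)
  have h := k'.2
  rw [map_smul] at h
  exact smul_right_injective _ hs h

/-- **the type of a module of dimension three** -/
theorem types [CharP F 2] (hF : Full ζ z g₁ g₂ β t a) (hc : Ch ρ ζ c) (h3 : finrank F M = 3) :
    ((∃ w, w ≠ 0 ∧ KF ρ z g₁ w) ∧ ∃ f, f ≠ 0 ∧ KFd ρ z g₂ f) ∨ ((∃ w, w ≠ 0 ∧ KF ρ z g₂ w) ∧ ∃ f, f ≠ 0 ∧ KFd ρ z g₁ f) := by
  have h1 := ev_one hF hc h3
  have a1 := fourfix hF.h1 ρ hc (by rw [h1, h3]; norm_num)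
  have a2 := fourfix hF.h2 ρ hc (by rw [h1, h3]; norm_num)
  rcases a1 with ⟨w, w0, k⟩ | ⟨f, f0, k1, k2⟩
  · rcases a2 with ⟨w', w0', k'⟩ | ⟨f, f0, k1, k2⟩
    · exact (not_both hF hc h3 k k' w0 w0').elim
    · exact Or.inl ⟨⟨w, w0, k⟩, f, f0, k1, k2⟩
  · rcases a2 with ⟨w', w0', k'⟩ | ⟨f', f0', k1', k2'⟩
    · exact Or.inr ⟨⟨w', w0', k'⟩, f, f0, k1, k2⟩
    · exfalso
      obtain ⟨s, rfl⟩ := prop_fun h1 k1 k1' f0
      have hs : s ≠ 0 := by rintro rfl; exact f0' (zero_smul _ _)
      refine f0 (functional_zero hF hc k1 k2 fun v => ?_)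
      have h := k2' v
      rw [LinearMap.smul_apply, LinearMap.smul_apply] at h
      exact smul_right_injective _ hs h

/-! ### alternating maps on a space of dimension three -/

/-- the span of the values -/
def vals (B : M →ₗ[F] M →ₗ[F] Y) : Submodule F Y := Submodule.span F {y | ∃ x x' : M, y = B x x'}

theorem mem_vals {B : M →ₗ[F] M →ₗ[F] Y} (x x' : M) : B x x' ∈ vals B := Submodule.subset_span ⟨x, x', rfl⟩

/-- two vectors spanning a plane -/
theorem exists_two {N : Submodule F M} (h2 : finrank F ↥N = 2) :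
    ∃ p ∈ N, ∃ q ∈ N, ∀ v ∈ N, ∃ r s : F, v = r • p + s • q := by
  obtain ⟨b⟩ : Nonempty (Basis (Fin 2) F ↥N) := ⟨Module.finBasisOfFinrankEq F ↥N h2⟩
  refine ⟨b 0, (b 0).2, b 1, (b 1).2, fun v hv => ?_⟩
  have h := b.sum_repr ⟨v, hv⟩
  rw [Fin.sum_univ_two] at h
  exact ⟨b.repr ⟨v, hv⟩ 0, b.repr ⟨v, hv⟩ 1, (congrArg Subtype.val h).symm⟩

theorem anti {B : M →ₗ[F] M →ₗ[F] Y} (hal : ∀ x, B x x = 0) (x y : M) : B y x = - B x y := by
  have h := hal (x + y)
  rw [map_add, map_add, LinearMap.add_apply, LinearMap.add_apply, hal, hal, zero_add, add_zero] at h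
  exact eq_neg_of_add_eq_zero_left h

/-- the values lie in the span of three of them -/
theorem vals_le {B : M →ₗ[F] M →ₗ[F] Y} (hal : ∀ x, B x x = 0) {p q e : M}
    (hs : ∀ v, ∃ r s u : F, v = r • p + s • q + u • e) : vals B ≤ Submodule.span F {B p q, B p e, B q e} := by
  rw [vals, Submodule.span_le]
  rintro _ ⟨x, x', rfl⟩
  obtain ⟨r, s, u, rfl⟩ := hs x
  obtain ⟨r', s', u', rfl⟩ := hs x'
  have h : B (r • p + s • q + u • e) (r' • p + s' • q + u' • e) = (r * s' - s * r') • B p q + (r * u' - u * r') • B p e +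
      (s * u' - u * s') • B q e := by
    simp only [map_add, map_smul, LinearMap.add_apply, LinearMap.smul_apply, hal, anti hal p q, anti hal p e,
      anti hal q e]
    module
  rw [h]
  exact mem3 _ _ _

theorem exists_three_span (h3 : finrank F M = 3) : ∃ p q e : M, ∀ v, ∃ r s u : F, v = r • p + s • q + u • e := by
  obtain ⟨b⟩ : Nonempty (Basis (Fin 3) F M) := ⟨Module.finBasisOfFinrankEq F M h3⟩
  refine ⟨b 0, b 1, b 2, fun v => ?_⟩
  have h := b.sum_repr v
  rw [Fin.sum_univ_three] at h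
  exact ⟨_, _, _, h.symm⟩

theorem finrank_vals {B : M →ₗ[F] M →ₗ[F] Y} (h3 : finrank F M = 3) (hal : ∀ x, B x x = 0) :
    finrank F ↥(vals B) ≤ 3 := by
  obtain ⟨p, q, e, hs⟩ := exists_three_span h3
  exact (Submodule.finrank_mono (vals_le hal hs)).trans (finrank_span3 _ _ _)

/-- **the fixed vector of the exterior square** -/
theorem cross [CharP F 2] {g : P} {β : P} (hh : Half ζ z g β) (h3 : finrank F M = 3) {B : M →ₗ[F] M →ₗ[F] Y}
    (hB : ∀ x y y', σ x (B y y') = B (ρ x y) (ρ x y')) (hal : ∀ x, B x x = 0) (hv : 3 ≤ finrank F ↥(vals B))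
    {f : Module.Dual F M} (f0 : f ≠ 0) (kf : KFd ρ z g f) : ∃ y ∈ vals B, y ≠ 0 ∧ KF σ z g y := by
  have h2 : finrank F ↥(LinearMap.ker f) = 2 := by
    have h1 := LinearMap.finrank_range_add_finrank_ker f
    have h4 : finrank F ↥(LinearMap.range f) = 1 := by
      have : LinearMap.range f = ⊤ := by
        obtain ⟨v, hv⟩ : ∃ v, f v ≠ 0 := by
          by_contra hcon
          push Not at hcon
          exact f0 (LinearMap.ext hcon)
        rw [LinearMap.range_eq_top]
        intro r
        exact ⟨(r * (f v)⁻¹) • v, by rw [map_smul, smul_eq_mul, mul_assoc, inv_mul_cancel₀ hv, mul_one]⟩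
      rw [this, finrank_top, Module.finrank_self]
    omega
  obtain ⟨p, hp, q, hq, hpq⟩ := exists_two h2
  obtain ⟨e, he⟩ : ∃ e, f e ≠ 0 := by
    by_contra hcon
    push Not at hcon
    exact f0 (LinearMap.ext hcon)
  have hspan : ∀ v, ∃ r s u : F, v = r • p + s • q + u • e := by
    intro v
    have h5 : v - (f v * (f e)⁻¹) • e ∈ LinearMap.ker f := by
      rw [LinearMap.mem_ker, map_sub, map_smul, smul_eq_mul, mul_assoc, inv_mul_cancel₀ he, mul_one, sub_self]
    obtain ⟨r, s, hrs⟩ := hpq _ h5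
    exact ⟨r, s, f v * (f e)⁻¹, by rw [← hrs]; abel⟩
  have hne : B p q ≠ 0 := by
    intro h0
    have h6 := Submodule.finrank_mono (vals_le hal hspan)
    have h7 : Submodule.span F {B p q, B p e, B q e} ≤ Submodule.span F {B p e, B q e} := by
      rw [Submodule.span_le]
      rintro x (rfl | rfl | rfl)
      · rw [h0]; exact Submodule.zero_mem _
      · exact Submodule.subset_span (by simp)
      · exact Submodule.subset_span (by simp)
    have h8 := Submodule.finrank_mono h7
    have h9 : finrank F ↥(Submodule.span F {B p e, B q e}) ≤ 2 := by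
      classical
      have hh : ({B p e, B q e} : Set Y) = ↑({B p e, B q e} : Finset Y) := by simp
      rw [hh]
      exact (finrank_span_finset_le_card _).trans Finset.card_le_two
    omega
  -- the plane `ker f` is stable
  have hline : ∀ x : P, (∀ v, f (ρ x v) = f v) → ∃ d : F, σ x (B p q) = d • B p q := by
    intro x hx
    obtain ⟨r, s, h6⟩ := hpq (ρ x p) (by rw [LinearMap.mem_ker, hx]; exact hp)
    obtain ⟨r', s', h7⟩ := hpq (ρ x q) (by rw [LinearMap.mem_ker, hx]; exact hq)
    refine ⟨r * s' - s * r', ?_⟩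
    rw [hB, h6, h7]
    simp only [map_add, map_smul, LinearMap.add_apply, LinearMap.smul_apply, hal, anti hal p q]
    module
  obtain ⟨d, hd⟩ := hline z kf.1
  obtain ⟨d', hd'⟩ := hline (xx z g) kf.2
  have pw : ∀ (x : P) (r : F), σ x (B p q) = r • B p q → ∀ n : ℕ, σ (x ^ n) (B p q) = r ^ n • B p q := by
    intro x r h n
    induction n with
    | zero => rw [pow_zero, pow_zero, map_one, one_smul]; rfl
    | succ n ih => rw [pow_succ, mul_ap, h, map_smul, ih, smul_smul, pow_succ, mul_comm]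
  have one_of : ∀ (x : P) (r : F), σ x (B p q) = r • B p q → ∀ n : ℕ, x ^ n = 1 → r ^ n = 1 := by
    intro x r h n hn
    have h8 := pw x r h n
    rw [hn, map_one] at h8
    have h9 : (r ^ n - 1) • B p q = 0 := by
      rw [sub_smul, one_smul, ← h8]
      exact sub_self _
    exact sub_eq_zero.1 ((smul_eq_zero.1 h9).resolve_right hne)
  have e2 : d' = 1 := by
    have h8 := one_of _ _ hd' 2 (by rw [pow_two]; exact xx_sq hh.gg)
    have h9 : (d' - 1) ^ 2 = 0 := by
      have h10 : (2 : F) = 0 := CharTwo.two_eq_zero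
      linear_combination h8 - (d' - 1) * h10
    exact sub_eq_zero.1 (pow_eq_zero_iff (two_ne_zero)|>.1 h9)
  have e5 := one_of _ _ hd 5 hh.z5
  have e3 : d ^ 3 = 1 := by
    refine one_of (xx z g * z) d ?_ 3 hh.c3
    rw [mul_ap, hd, map_smul, hd', e2, one_smul]
  have e1 : d = 1 := by
    have : d ^ 6 = 1 := by
      calc d ^ 6 = (d ^ 3) ^ 2 := by ring
        _ = 1 := by rw [e3, one_pow]
    calc d = d * d ^ 5 := by rw [e5, mul_one]
      _ = d ^ 6 := by ring
      _ = 1 := this
  exact ⟨B p q, mem_vals p q, hne, by rw [hd, e1, one_smul], by rw [hd', e2, one_smul]⟩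

end

end Cfsg.Agent.H882.SixT
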